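import Cfsg.Agent.OrthSevenMult.Model

/-!
Two generators of the actions of the presented orthogonal group, and base points for central covers of them.
-/

set_option autoImplicit false

namespace Cfsg.Lib.OrthSevenMult

open Cfsg.Lib.PermCert Cfsg.Lib.CosetCert Cfsg.Lib.FiPres
open Cfsg.Lib.Schur.PermPrime (sel ev elem gensOK wordsIn getD_in elem_apply)
open Cfsg.Lib.Schur.Mono

variable {n : ℕ} {T B : List PP}

/-- The two generating sets are words in each other. -/
structure Gens (n : ℕ) (T B : List PP) (gw lw : List (List ℕ)) : Prop where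
  gok : gensOK n B = true
  gin : wordsIn 8 gw = true
  lin : wordsIn B.length lw = true
  gval : ∀ k < B.length, ∀ x < n, ev T (gw.getD k []) x = ap (B.getD k (0, 0)).1 x
  lval : ∀ t < 8, ∀ x < n, ev B (lw.getD t []) x = ap (T.getD t (0, 0)).1 x

theorem perm_eq_elem {G : List PP} (hG : gensOK n G = true) {w : List ℕ}
    (hw : w.all (fun k => Nat.blt k G.length) = true) {g : PP} (hg : valid n g = true)
    (h : ∀ x < n, ev G w x = ap g.1 x) : perm n g = elem n G w :=
  Equiv.ext fun x => Fin.ext (by rw [perm_apply hg, elem_apply hG hw]; exact (h x x.2).symm)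

theorem gen_range {gw lw : List (List ℕ)} (hT : relOK n T = true) (G : Gens n T B gw lw) :
    (∀ k < B.length, perm n (B.getD k (0, 0)) ∈ (act hT).range) ∧
      (act hT).range ≤ Subgroup.closure {g | ∃ k < B.length, g = perm n (B.getD k (0, 0))} := by
  obtain ⟨hlen, hv⟩ := rel_facts hT
  have hTok : gensOK n T = true := List.all_eq_true.mpr fun g hg => by
    obtain ⟨l, hl, rfl⟩ := List.mem_iff_getElem.mp hg
    have h := hv l (by omega)
    rwa [List.getD_eq_getElem _ _ hl] at h
  constructor
  · intro k hk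
    have hvk : valid n (B.getD k (0, 0)) = true := by
      rw [List.getD_eq_getElem _ _ hk]
      exact List.all_eq_true.mp G.gok _ (List.getElem_mem _)
    have hw : (gw.getD k []).all (fun k => Nat.blt k T.length) = true := by rw [hlen]; exact getD_in G.gin k
    rw [perm_eq_elem hTok hw hvk (G.gval k hk)]
    refine Subgroup.list_prod_mem _ fun g hg => ?_
    obtain ⟨t, ht, rfl⟩ := List.mem_map.mp hg
    obtain ⟨l, hl, rfl⟩ := List.mem_map.mp ht
    have hl8 : l < 8 := by simpa [Nat.blt, Nat.ble_eq, hlen] using List.all_eq_true.mp hw l hl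
    exact ⟨imL l, act_imL hT hl8⟩
  · rw [MonoidHom.range_eq_map, ← PresentedGroup.closure_range_of, MonoidHom.map_closure]
    refine (Subgroup.closure_le _).2 ?_
    rintro _ ⟨_, ⟨i, rfl⟩, rfl⟩
    show act hT (PresentedGroup.of i) ∈ _
    rw [act, PresentedGroup.toGroup.of, letPerm]
    split_ifs with h
    · exact one_mem _
    have ht : i.val - 1 < 8 := by omega
    rw [perm_eq_elem G.gok (getD_in G.lin _) (hv _ ht) (G.lval _ ht)]
    refine Subgroup.list_prod_mem _ fun g hg => ?_
    obtain ⟨t, ht', rfl⟩ := List.mem_map.mp hg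
    obtain ⟨l, hl, rfl⟩ := List.mem_map.mp ht'
    exact Subgroup.subset_closure
      ⟨l, by simpa [Nat.blt, Nat.ble_eq] using List.all_eq_true.mp (getD_in G.lin _) l hl, rfl⟩

/-- The points over the base points determine the elements of a monomial cover. -/
theorem cov_based {q : ℕ} {row : ℕ → ℕ} {C : List PP} {tree : List (ℕ × ℕ)} {c : List SLev} {pts : List ℕ}
    {gw lw : List (List ℕ)} (hq : 0 < q) (hn : 0 < n) (hT : relOK n T = true) (G : Gens n T B gw lw)
    (hlen : B.length = C.length) (hc : compatOK n q B C = true)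
    (hs : ∀ k < C.length, ∀ i < n, stableOK q n row (C.getD k (0, 0)).1 [i] = true)
    (htree : treeOK q n row tree [0] = true) (hch : chainsOK n T c = true)
    (hpts : ∀ S ∈ c, q * S.lev.b ∈ pts) (h0 : 0 ∈ pts) :
    Cfsg.Lib.Schur.PermPrime.Based (cov q n C).subtype pts := by
  have hp : ∀ x ∈ cov q n C, Pres q n row x := fun x hx => pres_cov hq hc hs hx
  intro a b h
  suffices hab : a⁻¹ * b = 1 from inv_mul_eq_one.mp hab
  set x := a⁻¹ * b with hx
  have hfix : ∀ y : Fin (q * n), (y : ℕ) ∈ pts → x.1 y = y := fun y hy => by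
    show a.1⁻¹ (b.1 y) = y
    rw [show b.1 y = a.1 y from (h y hy).symm]
    exact Equiv.symm_apply_apply _ _
  have hmem : ∀ z : cov q n C, down hq hp z ∈ (act hT).range := by
    rintro ⟨z, hz⟩
    induction hz using Subgroup.closure_induction with
    | mem y hy =>
      obtain ⟨k, hk, rfl⟩ := hy
      rw [down_gen hq hc hp hk _ rfl]
      exact (gen_range hT G).1 k (by omega)
    | one => rw [show (⟨1, _⟩ : cov q n C) = 1 from rfl, map_one]; exact one_mem _
    | mul u w hu hw iu iw =>
      rw [show (⟨u * w, _⟩ : cov q n C) = ⟨u, hu⟩ * ⟨w, hw⟩ from rfl, map_mul]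
      exact mul_mem iu iw
    | inv u hu iu =>
      rw [show (⟨u⁻¹, _⟩ : cov q n C) = (⟨u, hu⟩ : cov q n C)⁻¹ from rfl, map_inv]
      exact inv_mem iu
  obtain ⟨g, hg⟩ := hmem x
  have hg1 : g = 1 := act_based hT hch fun S hS p hp' => Fin.ext (by
    rw [hg, down_apply, hfix _ (by show q * (p : ℕ) ∈ pts; rw [hp']; exact hpts S hS)]
    exact Nat.mul_div_cancel_left _ hq)
  have hk := ker_down hq hp htree (x := x) (by rw [← hg, hg1, map_one])
  obtain ⟨e, he⟩ : ∃ e : ℕ, zeta q n hq ^ e = (x : Equiv.Perm (Fin (q * n))) :=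
    Submonoid.mem_powers_iff _ _ |>.mp ((isOfFinOrder_of_finite _).mem_powers_iff_mem_zpowers.mpr hk)
  have h00 := congrArg Fin.val (hfix ⟨0, Nat.mul_pos hq hn⟩ h0)
  rw [← he, zeta_pow] at h00
  simp only [Nat.zero_div, Nat.zero_mod, mul_zero, zero_add] at h00
  refine Subtype.ext ?_
  rw [← he, OneMemClass.coe_one]
  refine Equiv.ext fun y => Fin.ext ?_
  rw [zeta_pow, Equiv.Perm.one_apply, Nat.add_mod, Nat.mod_mod, h00, add_zero, Nat.mod_mod, Nat.div_add_mod]

end Cfsg.Lib.OrthSevenMult
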