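import Cfsg.Agent.Schur.UniversalCover
import Cfsg.Agent.Schur.SylowTransfer
import Cfsg.Agent.Schur.Basic

/-!
Two perfect stem extensions of a perfect group give a perfect one over both; composites of stem extensions of perfect
groups are stem extensions.
-/

set_option autoImplicit false
set_option linter.style.haveILetI false

namespace Cfsg.Lib.OrthSevenMult

open scoped commutatorElement

universe u v w

/-- A group over a perfect group with central kernel in the derived subgroup is perfect. -/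
theorem perfect_of_stem {Γ : Type u} {Q : Type v} [Group Γ] [Group Q] {σ : Γ →* Q}
    (hσ : Cfsg.IsStemExtension σ) (hQ : commutator Q = ⊤) : commutator Γ = ⊤ := by
  refine eq_top_iff.mpr fun g _ => ?_
  have hg : σ g ∈ (commutator Γ).map σ := by
    rw [commutator_def, Subgroup.map_commutator, Subgroup.map_top_of_surjective σ hσ.1, ← commutator_def, hQ]
    exact Subgroup.mem_top _
  obtain ⟨d, hd, hdg⟩ := hg
  have : d⁻¹ * g ∈ σ.ker := by rw [MonoidHom.mem_ker, map_mul, map_inv, hdg, inv_mul_cancel]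
  simpa using (commutator Γ).mul_mem hd (hσ.2.2 this)

/-- Composites of stem extensions of perfect groups are stem extensions. -/
theorem stem_comp {Δ : Type u} {Γ : Type v} {Q : Type w} [Group Δ] [Group Γ] [Group Q] {τ : Δ →* Γ}
    {σ : Γ →* Q} (hτ : Cfsg.IsStemExtension τ) (hσ : Cfsg.IsStemExtension σ) (hΓ : commutator Γ = ⊤) :
    Cfsg.IsStemExtension (σ.comp τ) := by
  have hΔ := perfect_of_stem hτ hΓ
  refine ⟨hσ.1.comp hτ.1, fun x hx => ?_, fun _ _ => by rw [hΔ]; exact Subgroup.mem_top _⟩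
  have hcx := Subgroup.mem_center_iff.mp (hσ.2.1 (show τ x ∈ σ.ker from hx))
  have hk : ∀ y : Δ, ⁅x, y⁆ ∈ τ.ker := fun y => by
    rw [MonoidHom.mem_ker, map_commutatorElement, commutatorElement_eq_one_iff_mul_comm]
    exact (hcx (τ y)).symm
  let φ : Δ →* Δ := MonoidHom.mk' (fun y => ⁅x, y⁆) fun y z => by
    have hz := Subgroup.mem_center_iff.mp (hτ.2.1 (hk z))
    calc ⁅x, y * z⁆ = ⁅x, y⁆ * (y * ⁅x, z⁆ * y⁻¹) := by simp only [commutatorElement_def]; group
      _ = ⁅x, y⁆ * ⁅x, z⁆ := by rw [hz y]; group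
  have hφ : ∀ a b : Δ, φ ⁅a, b⁆ = 1 := fun a b => by
    rw [map_commutatorElement, commutatorElement_eq_one_iff_mul_comm]
    exact (Subgroup.mem_center_iff.mp (hτ.2.1 (hk a)) (φ b)).symm
  have htop : commutator Δ ≤ φ.ker := by
    rw [commutator_def, Subgroup.commutator_le]
    exact fun a _ b _ => hφ a b
  refine Subgroup.mem_center_iff.mpr fun y => ?_
  have : ⁅x, y⁆ = 1 := htop (by rw [hΔ]; exact Subgroup.mem_top y)
  exact (commutatorElement_eq_one_iff_mul_comm.mp this).symm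

theorem card_ker_comp {Δ : Type u} {Γ : Type v} {Q : Type w} [Group Δ] [Group Γ] [Group Q]
    (τ : Δ →* Γ) (σ : Γ →* Q) (hτ : Function.Surjective τ) :
    Nat.card (σ.comp τ).ker = Nat.card τ.ker * Nat.card σ.ker := by
  let f : (σ.comp τ).ker →* σ.ker := (τ.comp (σ.comp τ).ker.subtype).codRestrict σ.ker fun x => x.2
  have hf : Function.Surjective f := fun y => by
    obtain ⟨x, hx⟩ := hτ y
    exact ⟨⟨x, by rw [MonoidHom.mem_ker, MonoidHom.comp_apply, hx]; exact y.2⟩, Subtype.ext hx⟩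
  have hle : τ.ker ≤ (σ.comp τ).ker := fun x hx => by
    rw [MonoidHom.mem_ker, MonoidHom.comp_apply, MonoidHom.mem_ker.mp hx, map_one]
  have hk : f.ker = τ.ker.subgroupOf (σ.comp τ).ker := by
    ext x
    rw [MonoidHom.mem_ker, Subgroup.mem_subgroupOf, MonoidHom.mem_ker]
    exact Subtype.ext_iff
  rw [Subgroup.card_eq_card_quotient_mul_card_subgroup f.ker,
    Nat.card_congr (QuotientGroup.quotientKerEquivOfSurjective f hf).toEquiv, hk,
    Nat.card_congr (Subgroup.subgroupOfEquivOfLe hle).toEquiv, mul_comm]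

/-- A perfect stem extension over two perfect stem extensions. -/
theorem exists_both {Γ₁ Γ₂ Q : Type} [Group Γ₁] [Group Γ₂] [Group Q] [Finite Γ₁] [Finite Γ₂]
    (σ₁ : Γ₁ →* Q) (σ₂ : Γ₂ →* Q) (h₁ : Cfsg.IsStemExtension σ₁) (h₂ : Cfsg.IsStemExtension σ₂)
    (hQ : commutator Q = ⊤) (hcop : Nat.Coprime (Nat.card σ₁.ker) (Nat.card σ₂.ker)) :
    ∃ (D : Type) (_ : Group D) (_ : Finite D) (p₁ : D →* Γ₁) (p₂ : D →* Γ₂), commutator D = ⊤ ∧
      Cfsg.IsStemExtension p₁ ∧ Cfsg.IsStemExtension p₂ ∧ σ₁.comp p₁ = σ₂.comp p₂ ∧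
      Nat.card p₁.ker = Nat.card σ₂.ker ∧ Nat.card p₂.ker = Nat.card σ₁.ker := by
  have hp1 := perfect_of_stem h₁ hQ
  have hp2 := perfect_of_stem h₂ hQ
  obtain ⟨E, hE⟩ : ∃ E : Subgroup (Γ₁ × Γ₂),
      E = (σ₁.comp (MonoidHom.fst Γ₁ Γ₂)).eqLocus (σ₂.comp (MonoidHom.snd Γ₁ Γ₂)) := ⟨_, rfl⟩
  have mem : ∀ p, p ∈ E ↔ σ₁ p.1 = σ₂ p.2 := fun p => by subst hE; exact Iff.rfl
  let q₁ : E →* Γ₁ := (MonoidHom.fst Γ₁ Γ₂).comp E.subtype
  let q₂ : E →* Γ₂ := (MonoidHom.snd Γ₁ Γ₂).comp E.subtype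
  have hs₁ : Function.Surjective q₁ := fun a => by
    obtain ⟨b, hb⟩ := h₂.1 (σ₁ a)
    exact ⟨⟨(a, b), (mem _).mpr hb.symm⟩, rfl⟩
  have hs₂ : Function.Surjective q₂ := fun b => by
    obtain ⟨a, ha⟩ := h₁.1 (σ₂ b)
    exact ⟨⟨(a, b), (mem _).mpr ha⟩, rfl⟩
  have hcen : q₁.ker ≤ Subgroup.center E := fun x hx => by
    have hx' : (x : Γ₁ × Γ₂).1 = 1 := hx
    have hk : σ₂ (x : Γ₁ × Γ₂).2 = 1 := by rw [← (mem _).mp x.2, hx', map_one]
    refine Subgroup.mem_center_iff.mpr fun y => Subtype.ext (Prod.ext ?_ ?_)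
    · show (y : Γ₁ × Γ₂).1 * (x : Γ₁ × Γ₂).1 = (x : Γ₁ × Γ₂).1 * (y : Γ₁ × Γ₂).1
      rw [hx', mul_one, one_mul]
    · exact Subgroup.mem_center_iff.mp (h₂.2.1 hk) _
  have him₁ : (commutator E).map q₁ = ⊤ := by
    rw [commutator_def, Subgroup.map_commutator, Subgroup.map_top_of_surjective q₁ hs₁, ← commutator_def, hp1]
  have him₂ : (commutator E).map q₂ = ⊤ := by
    rw [commutator_def, Subgroup.map_commutator, Subgroup.map_top_of_surjective q₂ hs₂, ← commutator_def, hp2]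
  have hperfD : commutator (commutator E) = ⊤ := by
    have h1 : commutator E ≤ ⁅commutator E, commutator E⁆ := by
      refine Cfsg.Lib.Schur.commutator_eq_of_central hcen fun d => ?_
      obtain ⟨e, he, hed⟩ := (him₁ ▸ Subgroup.mem_top (q₁ d) : q₁ d ∈ (commutator E).map q₁)
      exact ⟨e, he, e⁻¹ * d, by rw [MonoidHom.mem_ker, map_mul, map_inv, hed, inv_mul_cancel],
        (mul_inv_cancel_left e d).symm⟩
    apply Subgroup.map_injective (commutator E).subtype_injective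
    rw [Subgroup.map_subtype_commutator, ← MonoidHom.range_eq_map, Subgroup.range_subtype]
    exact le_antisymm (Subgroup.commutator_le_self _) h1
  let p₁ : commutator E →* Γ₁ := q₁.comp (commutator E).subtype
  let p₂ : commutator E →* Γ₂ := q₂.comp (commutator E).subtype
  have hP₁ : Function.Surjective p₁ := fun a => by
    obtain ⟨e, he, hea⟩ := (him₁ ▸ Subgroup.mem_top a : a ∈ (commutator E).map q₁)
    exact ⟨⟨e, he⟩, hea⟩
  have hP₂ : Function.Surjective p₂ := fun a => by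
    obtain ⟨e, he, hea⟩ := (him₂ ▸ Subgroup.mem_top a : a ∈ (commutator E).map q₂)
    exact ⟨⟨e, he⟩, hea⟩
  have hcomp : σ₁.comp p₁ = σ₂.comp p₂ := MonoidHom.ext fun x => (mem _).mp (x : E).2
  have hst : Cfsg.IsStemExtension (σ₁.comp p₁) := by
    refine ⟨h₁.1.comp hP₁, fun x hx => Subgroup.mem_center_iff.mpr fun y => ?_, by rw [hperfD]; exact le_top⟩
    have hx2 : x ∈ (σ₂.comp p₂).ker := hcomp ▸ hx
    exact Subtype.ext (Subtype.ext (Prod.ext (Subgroup.mem_center_iff.mp (h₁.2.1 (show p₁ x ∈ σ₁.ker from hx)) _)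
      (Subgroup.mem_center_iff.mp (h₂.2.1 (show p₂ x ∈ σ₂.ker from hx2)) _)))
  have hle₁ : p₁.ker ≤ (σ₁.comp p₁).ker := fun x hx => by
    rw [MonoidHom.mem_ker, MonoidHom.comp_apply, MonoidHom.mem_ker.mp hx, map_one]
  have hle₂ : p₂.ker ≤ (σ₁.comp p₁).ker := fun x hx => by
    rw [hcomp, MonoidHom.mem_ker, MonoidHom.comp_apply, MonoidHom.mem_ker.mp hx, map_one]
  have e₁ := card_ker_comp p₁ σ₁ hP₁
  have e₂ := card_ker_comp p₂ σ₂ hP₂
  rw [← hcomp, e₁] at e₂
  -- each kernel embeds into the kernel of the other extension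
  have d₁ : Nat.card p₁.ker ∣ Nat.card σ₂.ker := by
    refine Subgroup.card_dvd_of_injective ((p₂.comp p₁.ker.subtype).codRestrict σ₂.ker fun x => ?_) fun x y e => ?_
    · have := hle₁ x.2
      rw [hcomp] at this
      exact this
    · exact Subtype.ext (Subtype.ext (Subtype.ext (Prod.ext (x.2.trans y.2.symm) (congrArg Subtype.val e))))
  have d₂ : Nat.card p₂.ker ∣ Nat.card σ₁.ker := by
    refine Subgroup.card_dvd_of_injective ((p₁.comp p₂.ker.subtype).codRestrict σ₁.ker fun x => hle₂ x.2)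
      fun x y e => ?_
    exact Subtype.ext (Subtype.ext (Subtype.ext (Prod.ext (congrArg Subtype.val e) (x.2.trans y.2.symm))))
  have c₁ : Nat.card σ₂.ker ∣ Nat.card p₁.ker :=
    hcop.symm.dvd_of_dvd_mul_right (e₂ ▸ dvd_mul_left _ _)
  have c₂ : Nat.card σ₁.ker ∣ Nat.card p₂.ker :=
    hcop.dvd_of_dvd_mul_right (e₂.symm ▸ dvd_mul_left _ _)
  exact ⟨commutator E, inferInstance, inferInstance, p₁, p₂, hperfD,
    ⟨hP₁, hle₁.trans hst.2.1, hle₁.trans hst.2.2⟩, ⟨hP₂, hle₂.trans hst.2.1, hle₂.trans hst.2.2⟩, hcomp,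
    Nat.dvd_antisymm d₁ c₁, Nat.dvd_antisymm d₂ c₂⟩

/-- A prime dividing the base at most once does not divide the kernel. -/
theorem not_dvd_cyclic {Γ : Type u} {Q : Type v} [Group Γ] [Group Q] [Finite Γ] [Finite Q] {σ : Γ →* Q}
    (hσ : Cfsg.IsStemExtension σ) {p : ℕ} [Fact p.Prime] (h : ¬ p ^ 2 ∣ Nat.card Q) : ¬ p ∣ Nat.card σ.ker := by
  intro hd
  obtain ⟨z, hz⟩ := exists_prime_orderOf_dvd_card' p hd
  obtain ⟨S, hS⟩ := Cfsg.Lib.Schur.exists_sylow_cyclic hσ h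
  have hzp : (z : Γ) ^ p = 1 := by rw [← Subgroup.coe_pow, ← hz, pow_orderOf_eq_one, Subgroup.coe_one]
  have h1 := hS z z.2 (Cfsg.Lib.Schur.mem_commutator_sylow hσ z.2 hzp S)
  rw [show z = 1 from Subtype.ext h1, orderOf_one] at hz
  exact (Fact.out : p.Prime).one_lt.ne hz

end Cfsg.Lib.OrthSevenMult
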