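import Cfsg.Agent.Schur.PrimeCert

/-!
Certificate data for the prime 3 in the cover of degree 1134.
-/

set_option autoImplicit false
set_option maxRecDepth 20000

namespace Cfsg.Lib.OrthSevenMult.Three

open Cfsg.Lib.Schur.Prime

/-- The certificate. -/
def cert : Cert where
  p := 3
  n := 10
  tails := [
    [[6, 8, 8, 9, 9]],
    [[0, 1, 2, 3, 4, 4, 6, 7, 8, 8, 9, 9], []],
    [[0, 2, 4, 4, 5, 5, 6, 7, 9], [1, 2, 4, 5, 5, 7, 7, 8], [8]],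
    [[0, 3, 4, 6, 6, 7, 8], [1, 3, 4, 4, 5, 5, 6, 6, 7, 7, 8, 9, 9], [2, 3, 5, 5, 6, 7, 7, 8, 8], []],
    [[0, 4, 5, 6, 6, 8], [1, 4, 7, 7, 9, 9], [2, 4, 7, 8, 8, 9], [3, 4, 7, 7, 8, 8, 9], []],
    [[0, 5, 7, 8, 8, 9], [1, 5, 7, 7, 8, 9], [2, 5, 7, 8, 9, 9], [3, 5, 7, 7, 8, 9, 9], [4, 5, 8, 8, 9], []],
    [[0, 6, 9, 9], [1, 6, 7, 7, 8, 8], [2, 6, 7, 9], [3, 6, 7, 7, 8], [4, 6, 8, 8, 9, 9], [5, 6, 9], []],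
    [[0, 7, 8], [1, 7, 8, 8], [2, 7, 9], [3, 7], [4, 7], [5, 7], [6, 7], []],
    [[0, 8, 9, 9], [1, 8], [2, 8], [3, 8], [4, 8], [5, 8], [6, 8], [7, 8], []],
    [[0, 9], [1, 9], [2, 9], [3, 9], [4, 9], [5, 9], [6, 9], [7, 9], [8, 9], []]]
  overlaps := [([0, 0, 0, 0], 1), ([2, 2, 2, 2], 1), ([1, 0, 0, 0], 1), ([1, 1, 1, 0], 2), ([2, 0, 0, 0], 1), ([2, 2, 2, 0], 2), ([2, 1, 1, 1], 1), ([2, 2, 2, 1], 2), ([2, 1, 0], 1), ([3, 0, 0, 0], 1), ([3, 3, 3, 0], 2), ([3, 1, 1, 1], 1), ([3, 3, 3, 1], 2), ([3, 1, 0], 1), ([3, 2, 2, 2], 1), ([3, 3, 3, 2], 2), ([3, 2, 0], 1), ([3, 2, 1], 1), ([4, 0, 0, 0], 1), ([4, 4, 4, 0], 2), ([4, 1, 1, 1], 1), ([4, 4, 4, 1], 2), ([4, 1, 0], 1), ([4, 2, 2, 2], 1), ([4, 4, 4, 2], 2), ([4, 2, 0], 1), ([4, 2, 1], 1), ([4, 3, 3, 3], 1), ([4, 3, 0], 1), ([4, 3, 1], 1), ([4, 3, 2], 1), ([5,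 0, 0, 0], 1), ([5, 1, 1, 1], 1), ([5, 1, 0], 1), ([5, 2, 2, 2], 1), ([5, 2, 0], 1), ([5, 2, 1], 1), ([5, 3, 0], 1), ([5, 3, 1], 1), ([5, 3, 2], 1)]
  fuse := [
    ([[1, 2, 2, 3, 4, 5, 5, 7, 7], [4, 4, 6, 8, 8], [9]],
      [[3, 3, 4, 4, 5, 6, 7, 8, 9, 9], [3, 3, 4, 7, 8, 8], [9]],
      [([0, 0, 0], []), ([1, 0], [0, 1]), ([1, 1, 1], [])]),
    ([[3, 3, 5], [4, 5, 5], [5, 5, 6], [7], [9]],
      [[1, 1, 3, 4, 5, 6, 6, 7, 7, 8, 8, 9], [1, 2, 4, 6, 7, 7, 8, 8, 9], [2, 3, 4, 5, 5, 6, 8], [1, 1, 2, 2, 5, 5, 7, 9, 9], [9]],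
      [([1, 0], [0, 1]), ([2, 0], [0, 2])]),
    ([[0, 1, 2, 2, 5], [3], [5, 5, 6], [6, 6, 7], [7, 7, 8], [9]],
      [[3, 3, 4, 5, 7, 7, 9, 9], [0, 0, 1, 1, 3, 3, 4, 4, 5, 5, 6, 6, 7, 8], [0, 0, 1, 1, 3, 5, 6, 7], [3, 3, 4, 5, 5, 6, 7, 8, 8], [7, 7, 8, 8, 9], [9]],
      [([0, 0, 0], []), ([1, 0], [0, 1, 4, 5]), ([2, 0], [0, 2, 4]), ([2, 1], [1, 2, 5]), ([2, 2, 2], [])])]
  delta := [
    [],
    [],
    [],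
    [(10, 1), (21, 1), (22, 2), (30, 2), (31, 2)],
    [(0, 2), (20, 1), (22, 2), (30, 1), (31, 2)],
    [(0, 1), (30, 2), (31, 2)],
    [(20, 2), (21, 2), (30, 2), (31, 2)],
    [(0, 1), (20, 1), (21, 2), (30, 2)],
    [(22, 1)],
    [(0, 2), (20, 2), (21, 2), (22, 2), (30, 2), (31, 2)]]
  sels := [
    [[]],
    [[], [(0, 2), (1, 2), (2, 2), (3, 1), (4, 1), (5, 1), (7, 1), (8, 2), (9, 1), (10, 2), (11, 2), (12, 1), (13, 2), (15, 2), (16, 2), (17, 1), (18, 2), (19, 2), (24, 2), (30, 2), (31, 1), (32, 1), (33, 1), (34, 2), (35, 2), (36, 2), (38, 1), (40, 1), (41, 1), (43, 1), (44, 2)]],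
    [[], [], []],
    [[], [], [(1, 1), (2, 2), (4, 1), (5, 2), (6, 2), (7, 1), (8, 1), (9, 1), (11, 1), (13, 2), (15, 2), (16, 1), (17, 2), (18, 1), (20, 1), (21, 2), (22, 1), (23, 1), (24, 2), (25, 2), (26, 2), (28, 2), (29, 1), (30, 1), (32, 2), (34, 2), (36, 1), (37, 2), (39, 2), (40, 1), (41, 1), (42, 1), (43, 2), (45, 2)], [(1, 2), (2, 2), (3, 1), (4, 1), (5, 2), (7, 2), (10, 2), (11, 2), (12, 1), (14, 1), (16, 2), (17, 2), (18, 2), (20, 2), (21, 2), (22, 2), (25, 2), (26, 2), (28, 2), (29, 1), (31, 2), (32, 1), (33, 1), (34, 2), (36, 2), (37, 2), (38, 1), (39, 2), (42, 1), (45, 1), (49, 2)]],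
    [[(0, 1), (1, 1), (2, 2), (5, 2), (6, 2), (8, 2), (10, 1), (11, 2), (12, 2), (13, 1), (14, 1), (16, 1), (18, 2), (21, 1), (22, 1), (24, 1), (25, 2), (26, 1), (27, 2), (28, 2), (30, 2), (33, 1), (34, 1), (36, 2), (37, 2), (40, 1), (41, 2), (44, 1), (45, 1), (46, 2), (47, 1), (48, 1), (49, 1)], [(0, 1), (1, 1), (2, 1), (4, 1), (5, 2), (7, 2), (8, 1), (10, 1), (11, 2), (12, 1), (14, 1), (15, 2), (16, 1), (17, 1), (18, 1), (19, 1), (21, 2), (22, 1), (23, 1), (24, 2), (25, 2), (27, 1), (30, 2), (32, 1), (35, 2), (36, 1), (37, 2), (38, 2), (39, 2), (41, 1), (42, 1), (44, 1), (45, 2), (46, 2), (47, 1), (48, 1), (49, 1)], [(0, 2), (1, 1), (3, 1), (4, 2), (6, 2), (7, 1), (8, 1), (9, 2), (10, 2), (11, 2), (13, 2), (14, 2), (17, 2), (18, 1), (19, 1), (20, 2), (21, 2), (22, 1), (23, 1), (26, 1), (27, 1), (29, 2), (30,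 1), (32, 1), (34, 2), (35, 2), (36, 1), (37, 2), (38, 1), (41, 1), (42, 1), (43, 1), (44, 1), (46, 1), (47, 2), (48, 2)], [(0, 1), (1, 1), (2, 1), (4, 1), (5, 2), (6, 2), (7, 1), (8, 1), (11, 2), (13, 1), (14, 1), (16, 1), (18, 1), (20, 2), (21, 2), (22, 1), (24, 1), (25, 1), (27, 2), (28, 2), (29, 2), (32, 2), (33, 2), (34, 1), (36, 1), (37, 1), (38, 2), (39, 2), (40, 1), (41, 2), (43, 1), (44, 1), (46, 2), (47, 1), (48, 1), (49, 2)], [(0, 1), (2, 1), (3, 1), (4, 1), (6, 2), (8, 2), (9, 1), (10, 1), (11, 1), (12, 1), (13, 2), (14, 2), (15, 2), (16, 2), (17, 1), (18, 2), (19, 2), (20, 2), (22, 1), (23, 2), (24, 2), (25, 1), (26, 2), (27, 1), (30, 1), (33, 1), (34, 1), (36, 1), (37, 2), (39, 1)]],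
    [[(0, 2), (3, 2), (6, 1), (8, 1), (11, 2), (13, 2), (14, 2), (15, 2), (16, 2), (17, 1), (18, 1), (19, 1), (21, 1), (23, 1), (24, 1), (26, 1), (29, 2), (31, 2), (33, 2), (34, 2), (35, 1), (36, 1), (37, 1), (38, 1), (39, 1), (41, 1), (42, 1), (44, 2), (45, 2), (46, 1), (47, 2), (48, 2), (49, 1)], [(0, 2), (1, 2), (2, 2), (5, 1), (6, 1), (8, 2), (9, 1), (10, 2), (11, 2), (12, 1), (13, 2), (14, 1), (15, 2), (16, 1), (17, 2), (18, 1), (19, 2), (20, 1), (23, 2), (25, 1), (27, 2), (28, 2), (29, 2), (30, 1), (31, 1), (32, 2), (33, 2), (36, 2), (39, 1), (40, 1), (41, 2), (42, 2), (43, 2), (46, 2), (47, 1), (48, 1), (49, 2)], [(0, 1), (1, 1), (4, 2), (6, 1), (7, 1), (8, 2), (9, 1), (10, 2), (12, 2), (13, 2), (14, 1), (15, 1), (17, 1), (18, 2), (19, 2), (20, 2), (21, 2), (22, 1), (24, 1), (25, 2), (26, 2), (27, 1),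 (28, 2), (30, 2), (31, 2), (33, 1), (34, 2), (35, 2), (36, 1), (37, 1), (38, 2), (39, 2), (40, 2), (41, 1), (43, 1), (45, 1), (46, 1), (47, 2), (48, 2)], [(0, 1), (1, 1), (2, 2), (5, 2), (6, 1), (7, 2), (10, 2), (11, 1), (13, 2), (16, 1), (17, 2), (18, 1), (19, 2), (21, 1), (22, 1), (25, 2), (26, 2), (27, 2), (28, 1), (29, 2), (31, 2), (32, 1), (33, 2), (35, 2), (37, 2), (38, 2), (39, 1), (41, 2), (42, 2), (44, 1), (45, 1), (46, 2), (47, 1), (48, 1), (49, 2)], [(0, 2), (1, 1), (3, 2), (6, 1), (7, 1), (8, 2), (9, 1), (10, 2), (11, 2), (13, 1), (14, 2), (20, 1), (22, 1), (24, 1), (25, 2), (26, 2), (27, 1), (28, 2), (29, 2), (30, 1), (33, 1), (36, 1), (37, 1), (39, 1), (40, 2), (42, 2), (43, 1), (44, 1), (45, 1)], [(0, 2), (2, 2), (3, 2), (4, 2), (5, 2), (6, 2), (7, 2), (8, 1), (10, 2), (12, 2), (13, 1), (14,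 2), (15, 2), (16, 2), (17, 1), (18, 1), (20, 1), (21, 2), (23, 2), (24, 1), (25, 1), (27, 2), (30, 1), (31, 1), (33, 1), (36, 2), (37, 2), (38, 1)]],
    [[(0, 2), (1, 1), (2, 2), (3, 1), (5, 2), (6, 2), (7, 1), (8, 1), (10, 2), (12, 1), (13, 2), (16, 1), (17, 1), (18, 1), (19, 2), (20, 2), (22, 2), (23, 2), (24, 1), (25, 2), (28, 2), (29, 2), (31, 1), (32, 1), (33, 1), (34, 2), (35, 1), (36, 1), (37, 1), (38, 1), (39, 2), (40, 1), (43, 2), (44, 2), (49, 2)], [(0, 1), (1, 1), (2, 1), (3, 1), (4, 2), (5, 1), (6, 2), (8, 2), (10, 2), (11, 2), (16, 1), (18, 1), (20, 1), (21, 2), (24, 1), (25, 1), (26, 2), (27, 1), (29, 1), (30, 2), (32, 1), (33, 1), (34, 1), (37, 2), (38, 2), (39, 2), (40, 2), (41, 2), (43, 1), (44, 2), (45, 1), (46, 2), (47, 1), (48, 1)], [(0, 1), (1, 2), (2, 2), (3, 1), (5, 1), (8, 1), (9, 1),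 (10, 2), (13, 2), (15, 2), (16, 1), (17, 2), (18, 2), (19, 2), (20, 2), (21, 1), (23, 2), (24, 1), (25, 1), (27, 2), (34, 1), (37, 2), (39, 1), (41, 1), (42, 2), (44, 2), (46, 1), (47, 2), (48, 2)], [(0, 2), (1, 1), (2, 2), (3, 1), (5, 2), (6, 2), (7, 1), (9, 1), (12, 1), (13, 1), (16, 2), (17, 2), (18, 2), (19, 1), (20, 1), (21, 1), (22, 2), (24, 1), (26, 2), (27, 2), (28, 2), (30, 2), (32, 2), (34, 1), (35, 1), (36, 2), (37, 1), (38, 2), (39, 2), (40, 2), (41, 2), (42, 2), (43, 1), (44, 2), (45, 1), (46, 2), (47, 1), (48, 1)], [(0, 2), (2, 2), (3, 2), (4, 2), (5, 1), (6, 1), (7, 1), (9, 1), (10, 1), (11, 2), (12, 1), (13, 1), (14, 1), (15, 2), (16, 2), (17, 2), (19, 1), (20, 1), (21, 1), (22, 1), (23, 2), (24, 1), (25, 2), (26, 1), (27, 2), (28, 2), (29, 2), (30, 1), (31, 1), (32, 1), (33, 1), (34, 2), (35,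 2), (36, 2), (38, 2), (39, 1), (40, 1), (42, 2), (43, 2), (44, 2), (45, 1), (49, 1)], [(1, 2), (2, 2), (4, 1), (8, 1), (10, 2), (11, 2), (15, 2), (17, 1), (19, 2), (20, 1), (22, 1), (26, 2), (27, 1), (28, 1), (29, 2), (30, 1), (31, 1), (33, 1), (34, 1), (35, 2), (36, 2), (37, 2), (38, 1), (39, 1), (40, 2), (43, 1), (44, 1), (49, 1)], [(4, 2), (6, 1), (7, 2), (9, 1), (10, 1), (11, 1), (12, 1), (14, 2), (15, 2), (16, 2), (17, 1), (18, 1), (20, 1), (21, 2), (22, 2), (24, 2), (25, 2), (27, 1), (28, 1), (29, 2), (31, 2), (32, 2), (34, 2), (37, 2), (39, 1)]],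
    [[(0, 1), (1, 1), (5, 2), (6, 1), (7, 2), (8, 2), (9, 1), (10, 1), (11, 1), (12, 1), (13, 2), (14, 1), (20, 2), (21, 1), (23, 2), (24, 1), (26, 1), (29, 1), (30, 1), (31, 2), (35, 2), (37, 2), (42, 1), (45, 1), (49, 2)], [(0, 1), (3, 1), (4, 1), (5, 1), (7, 2), (8, 2), (10, 2), (13, 2), (16, 1), (17, 1), (18, 2), (19, 2), (20, 2), (22, 2), (24, 1), (25, 1), (28, 1), (29, 2), (31, 2), (33, 2), (34, 1), (35, 2), (36, 1), (37, 2), (38, 1), (42, 2), (45, 1), (49, 2)], [(0, 1), (1, 2), (2, 2), (3, 2), (4, 2), (5, 2), (9, 1), (13, 2), (14, 1), (16, 2), (19, 1), (20, 1), (21, 1), (22, 2), (23, 1), (24, 2), (26, 1), (27, 1), (28, 1), (31, 2), (33, 1), (35, 2), (36, 2), (37, 2), (39, 2), (40, 2), (43, 1), (44, 1), (45, 1)], [(1, 1), (2, 2), (3, 1), (4, 2), (5, 2), (6, 1), (7, 2), (9, 2), (11, 1), (15, 2), (17, 1),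 (18, 2), (19, 1), (20, 1), (21, 1), (23, 2), (26, 1), (27, 1), (28, 1), (29, 1), (30, 1), (31, 2), (32, 1), (33, 1), (35, 2), (36, 1), (39, 2), (45, 1), (49, 2)], [(0, 2), (1, 1), (2, 1), (4, 2), (5, 1), (7, 1), (8, 1), (9, 2), (13, 1), (15, 1), (16, 1), (18, 2), (19, 2), (21, 2), (22, 2), (25, 1), (27, 1), (30, 2), (33, 1), (34, 1), (35, 1), (36, 2), (39, 2), (45, 1), (49, 2)], [(2, 2), (3, 1), (7, 1), (11, 2), (15, 2), (17, 1), (18, 2), (19, 2), (20, 1), (21, 1), (25, 2), (26, 1), (27, 1), (29, 2), (30, 1), (31, 1), (33, 2), (35, 1), (36, 1), (38, 1), (39, 1), (45, 1), (49, 2)], [(0, 1), (1, 1), (3, 2), (5, 1), (6, 1), (8, 2), (10, 1), (11, 2), (12, 1), (13, 2), (14, 1), (15, 2), (16, 2), (17, 2), (20, 2), (21, 1), (22, 1), (23, 1), (24, 1), (25, 1), (26, 1), (28, 1), (29, 1), (31, 2), (33, 2), (34, 1), (35,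 1), (36, 2), (38, 1), (45, 1), (49, 2)], [(24, 1), (27, 1)]],
    [[(1, 1), (3, 1), (4, 1), (5, 2), (6, 1), (7, 1), (8, 2), (9, 1), (14, 1), (15, 1), (16, 2), (17, 1), (18, 1), (19, 1), (21, 1), (22, 1), (23, 1), (24, 2), (25, 1), (26, 2), (27, 1), (29, 2), (30, 2), (31, 2), (32, 2), (33, 1), (37, 2), (38, 1), (39, 1), (40, 1), (43, 2), (44, 2), (45, 1), (49, 1)], [(0, 1), (1, 2), (2, 1), (3, 1), (4, 2), (7, 2), (8, 2), (9, 2), (11, 1), (13, 2), (15, 2), (16, 2), (17, 1), (18, 2), (19, 2), (20, 1), (22, 1), (23, 2), (24, 1), (26, 2), (27, 1), (28, 2), (31, 1), (32, 2), (33, 2), (36, 1), (38, 2), (39, 2)], [(1, 1)], [(0, 1), (1, 2), (2, 1), (3, 1), (5, 1), (6, 2), (7, 2), (8, 2), (11, 1), (13, 2), (15, 2), (16, 2), (17, 1), (18, 1), (19, 1), (20, 1), (22, 1), (23, 2), (24, 2), (25, 2), (27, 2), (28, 1), (31,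 1), (32, 2), (34, 1), (36, 1), (38, 2), (39, 1)], [(1, 1), (6, 2), (9, 2), (10, 2), (11, 1), (12, 2), (14, 1), (16, 2), (17, 1), (18, 1), (19, 1), (20, 2), (21, 1), (22, 2), (23, 1), (24, 1), (25, 1), (26, 1), (29, 1), (30, 1), (32, 2), (33, 1), (36, 2)], [(1, 1), (6, 2), (9, 2), (10, 2), (11, 1), (12, 2), (14, 1), (16, 2), (17, 1), (18, 1), (19, 1), (20, 1), (21, 1), (22, 2), (24, 1), (25, 1), (26, 1), (29, 1), (30, 1), (33, 1), (34, 1), (36, 2)], [(0, 1), (2, 1), (3, 1), (5, 1), (7, 1), (8, 2), (9, 1), (11, 1), (13, 2), (20, 2), (21, 2), (22, 2), (24, 1), (25, 1), (26, 2), (27, 1), (28, 1), (29, 2), (30, 2), (31, 1), (32, 1), (33, 2), (36, 1), (38, 1)], [(0, 1), (1, 2), (2, 1), (3, 1), (4, 2), (7, 2), (8, 2), (9, 2), (11, 1), (13, 2), (15, 2), (16, 2), (17, 1), (18, 2), (19, 2), (20, 2), (21, 1), (22, 1),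 (23, 2), (24, 1), (26, 2), (28, 2), (31, 1), (33, 2), (36, 1), (38, 2), (39, 2)], [(21, 1), (24, 1)]],
    [[(0, 1), (2, 2), (4, 2), (6, 1), (8, 2), (9, 2), (10, 2), (12, 1), (13, 2), (14, 2), (15, 2), (16, 2), (19, 1), (20, 2), (21, 1), (22, 1), (23, 1), (25, 1), (26, 1), (28, 2), (30, 1), (31, 2), (32, 2), (34, 2), (35, 1), (36, 1), (37, 2), (39, 1), (45, 2), (49, 1)], [(1, 2), (4, 2), (5, 2), (6, 2), (7, 1), (10, 2), (11, 1), (12, 2), (15, 1), (16, 1), (17, 2), (20, 2), (22, 1), (24, 2), (27, 1), (28, 1), (32, 2), (33, 1), (34, 2), (36, 1), (38, 1), (39, 2)], [(0, 2), (2, 2), (3, 2), (4, 1), (6, 1), (7, 1), (8, 1), (10, 1), (11, 2), (12, 1), (13, 1), (15, 2), (18, 2), (19, 2), (20, 1), (21, 2), (22, 1), (25, 1), (26, 2), (27, 2), (28, 1), (29, 2), (30, 2), (31, 2), (32, 2), (33, 2), (34, 2), (38, 2), (39,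 2)], [(1, 1), (9, 2), (10, 1), (11, 1), (16, 2), (17, 1), (18, 1), (19, 2), (20, 1), (21, 2), (22, 2), (24, 2), (25, 1), (26, 1), (32, 2), (33, 1), (34, 1), (36, 1)], [(0, 2), (1, 2), (2, 2), (3, 2), (5, 2), (6, 1), (7, 2), (8, 1), (9, 2), (13, 1), (15, 1), (19, 2), (20, 2), (21, 2), (22, 1), (23, 2), (25, 2), (26, 2), (28, 2), (29, 1), (30, 1), (31, 2), (33, 1), (34, 2), (36, 1), (38, 2)], [(0, 2), (1, 1), (2, 2), (3, 2), (5, 2), (8, 1), (10, 2), (11, 2), (12, 2), (13, 1), (14, 2), (15, 1), (16, 1), (17, 2), (18, 2), (19, 2), (20, 2), (22, 2), (23, 1), (24, 1), (25, 1), (28, 2), (31, 2), (34, 2), (36, 2), (38, 1), (39, 2)], [(0, 2), (1, 1), (2, 2), (3, 2), (4, 2), (5, 1), (6, 1), (7, 1), (8, 1), (9, 2), (11, 1), (13, 1), (14, 2), (15, 1), (16, 1), (17, 2), (21, 1), (22, 2), (23, 2), (24, 2), (25, 2), (26,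 1), (27, 1), (31, 2), (33, 2), (34, 2), (38, 1)], [(0, 1), (1, 2), (2, 1), (3, 1), (4, 2), (7, 2), (8, 2), (9, 1), (13, 2), (14, 2), (15, 1), (16, 1), (17, 2), (20, 2), (21, 2), (24, 2), (25, 1), (27, 1), (28, 2), (31, 1), (34, 1), (36, 1), (38, 1), (39, 1)], [(20, 1), (24, 2), (27, 1), (32, 2)], [(21, 1), (24, 2), (27, 2)]]]

/-- Words of the generators. -/
def pcw : List (List ℕ) := [[0, 0, 0, 0, 0, 0, 0, 0, 0, 0, 0, 0, 1, 0, 0, 0, 0, 0, 0, 1, 0, 0, 0, 1, 0, 1, 0, 1, 0, 1, 0, 0, 0, 0, 0, 0, 0, 0, 0, 0, 0, 0, 1, 0, 0, 0, 1, 0, 1, 0, 0, 1, 0, 0, 0, 0, 0, 0, 0, 0, 0, 0, 0, 0, 1, 0, 0, 0, 0], [1, 0, 0, 0, 0, 0, 0, 0, 0, 0, 0, 0, 0, 1, 0, 0, 0, 0, 0, 0, 0, 0, 0, 0, 0, 0, 0, 0, 0, 0, 0, 0, 0, 0, 0, 0, 0, 0, 0, 0, 0, 0, 0, 0, 0, 0, 0, 0, 0, 0, 0, 0, 0, 0, 0, 0, 0, 0, 0, 0, 0, 0, 1, 0, 0, 0, 0, 0, 0, 0, 0, 0, 0,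 0, 0, 0, 0, 0, 0, 0, 0, 0, 0, 0, 0, 0, 0, 1, 0, 0, 0, 0, 0, 0, 0, 0, 0, 0, 0, 0, 1, 0, 0, 0, 0, 0, 0, 0, 0, 0, 0, 0, 0, 0, 0, 0, 0, 0, 0, 0, 0, 0, 0, 0, 0, 1, 0, 0, 0, 0, 0, 0, 0, 0, 0, 0, 0, 0, 1, 0, 0, 1, 0, 0, 1, 0, 1, 0, 0, 0, 0, 0, 0, 0, 0, 0, 0, 0, 0, 0, 0, 0, 0, 0, 0, 0, 0, 0, 0, 0, 0, 1, 0, 0, 0, 0, 0, 0, 0, 0, 0, 0, 0, 0, 1, 0, 1, 0, 0, 0, 0, 0, 0, 0, 0, 0, 0, 0, 0, 0, 0, 0, 0, 0, 0, 0, 0, 0, 0, 0, 0, 1, 0, 0, 0, 0, 0, 0, 0, 0, 0, 0, 0, 0], [0, 0, 0, 0, 1, 0, 1, 0, 0, 0, 0, 0, 0, 0, 0, 0, 0, 0, 0, 0, 0, 0, 0, 0, 0, 0, 0, 0, 0, 0, 0, 0, 0, 0, 0, 0, 0, 0, 0, 0, 0, 0, 0, 1, 0, 0, 0, 0, 0, 0, 0, 0, 0, 0, 0, 0, 1, 0, 0, 1, 0, 0, 0, 0, 0, 1, 0, 0, 0, 0, 0, 0, 0, 0, 0, 0, 0, 0, 0, 0, 0, 0, 0, 0, 0, 0, 0, 0, 0, 0, 1, 0, 0, 0, 0, 0, 0, 0, 0, 0, 0, 0, 0, 1, 0, 0, 0, 0, 0, 0, 0, 0, 0, 0, 0, 0, 1, 0, 0, 0, 0,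 0, 0], [1, 0, 0, 0, 1, 0, 1, 0, 0, 0, 0, 0, 0, 0, 0, 0, 0, 0, 0, 1, 0, 0, 0, 0, 0, 0, 0, 0, 0, 0, 0, 0, 1, 0, 0, 0, 0, 0, 0, 0, 0, 0, 0, 0, 0, 1, 0, 0, 0, 0, 0, 0, 0, 1, 0, 0, 1, 0, 1, 0, 0, 0, 1, 0, 0, 0, 0, 0, 0, 0, 0, 0, 0, 0, 0, 1, 0, 0, 0, 0, 0, 0, 0, 0, 0, 0, 0, 0, 1, 0], [0, 1, 0, 0, 1, 0, 1, 0, 0, 0, 0, 0, 1, 0, 1, 0, 0, 0, 0, 0, 0, 0, 0, 0, 0, 0, 0, 0, 0, 0, 0, 0, 0, 0, 0, 0, 0, 0, 0, 1, 0, 0, 0, 0, 0, 0, 0, 0, 0, 0, 0, 0, 1, 0, 0, 1, 0, 0, 0, 0, 1, 0, 1, 0, 0, 0, 0, 0, 0, 0, 0, 0, 0, 0, 0, 1, 0, 0, 0, 0, 0, 0, 0, 0, 0, 0, 0, 0, 1, 0, 0, 0, 0, 0, 0, 0, 0, 0, 0, 0, 0, 0, 0, 0, 0, 0, 0, 0, 0, 0, 0, 0, 0, 0, 0, 0, 0, 0, 0, 0, 0, 0, 0, 0, 0], [0, 0, 0, 0, 0, 1, 0, 0, 0, 0, 0, 0, 0, 0, 0, 0, 0, 0, 1, 0, 0, 1, 0, 0, 0, 1, 0, 0, 1, 0, 1, 0, 0, 1, 0, 0, 1, 0, 1, 0, 0, 0, 0, 1, 0, 0], [0, 1, 0, 0, 1, 0, 0,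 0, 0, 0, 0, 1, 0, 0, 1, 0, 1, 0, 1, 0, 1, 0, 0, 1, 0, 1, 0, 0, 0, 0, 0, 1, 0, 1, 0, 0, 0, 0, 0, 0, 0, 0, 0, 0, 0, 0], [0, 1, 0, 1, 0, 0, 0, 1, 0, 1, 0, 1, 0, 0, 1, 0, 1, 0, 1, 0, 0, 0, 1, 0, 1, 0, 1, 0, 0, 1], [1, 0, 0, 0, 0, 0, 0, 0, 0, 0, 0, 0, 0, 1, 0, 0, 0, 0, 0, 0, 0, 0, 0, 0, 0, 0, 1, 0, 0, 0, 0, 0, 0, 0, 0, 0, 0, 0, 0, 0, 0, 0, 0, 0, 0, 0, 0, 0, 0, 0, 0, 1, 0, 1, 0, 0, 0, 0, 1, 0, 0, 1, 0, 1, 0, 0, 0, 0, 0, 0, 0, 0, 0, 0, 0, 0, 1, 0, 0, 0, 0, 0, 0, 0, 0, 0, 0, 0, 0, 0, 0, 0, 0, 0, 0, 0, 0, 0, 0, 0, 0, 1, 0, 0, 0, 1, 0, 0, 0, 1, 0, 1, 0, 0, 0, 0, 0, 0, 0, 0, 0, 0, 0, 0, 0, 0, 0, 0, 0, 0, 0, 0, 0, 0, 0, 0], [0, 0, 0, 1, 0, 1, 0, 0, 1, 0, 0, 0, 0, 1, 0, 1, 0, 0, 1, 0, 0, 0, 0, 1, 0, 1, 0, 0, 1, 0, 0, 0, 0, 1, 0, 1, 0, 0, 1, 0, 0, 0, 0, 1, 0, 1, 0, 0, 1, 0, 0, 0, 0, 1, 0, 1, 0, 0, 1, 0, 0, 0, 0, 1, 0, 1,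 0, 0, 1, 0, 0, 0, 0, 1, 0, 1, 0, 0, 1, 0]]

/-- Words of the conjugating elements. -/
def fw : List (List ℕ) := [[0], [0, 0, 0], [1, 0, 0, 0, 0, 1, 1, 0, 1, 1, 0, 0, 0, 1]]

/-- Small stable sets of points. -/
def orbs : List (List ℕ) := [[0, 25, 14, 7, 5, 2, 1, 17, 8, 26, 18, 6, 15, 12, 23, 10, 16, 3, 4, 24, 13, 21, 9, 11, 19, 20, 22], [162, 327, 180, 184, 177, 166, 167, 163, 319, 315, 314, 310, 317, 325, 328, 199, 197, 185, 181, 194, 178, 179, 309, 196, 193, 182, 324, 170, 168, 169, 165, 164, 173, 307, 308, 202, 201, 320, 176, 305, 297, 304, 313, 316, 306, 301, 300, 311, 312, 171, 298, 302, 175, 299, 303, 323, 326, 329, 192, 200, 195, 183, 198, 203, 322, 321, 191, 187, 186, 332, 331, 330, 172, 206, 205, 204, 318, 190, 189, 174, 188], [0, 7, 5, 2, 1, 6, 8, 3, 4], [81, 501, 155, 101, 129, 95, 82, 472, 831,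 497, 523, 508, 502, 825, 121, 144, 139, 156, 153, 490, 146, 119, 94, 113, 99, 106, 125, 130, 89, 93, 83, 480, 872, 452, 466, 473, 486, 846, 521, 499, 826, 832, 876, 520, 522, 489, 495, 496, 530, 524, 512, 509, 503, 484, 844, 525, 504, 839, 840, 86, 114, 133, 122, 513, 85, 135, 148, 145, 152, 143, 140, 159, 157, 154, 883, 526, 507, 494, 491, 515, 84, 137, 158, 147, 517, 136, 112, 117, 124, 88, 105, 111, 100, 107, 118, 123, 131, 87, 864, 460, 478, 487, 481, 459, 464, 892, 878, 870, 450, 467, 471, 160, 867, 454, 476, 485, 861, 850, 829, 845, 847, 449, 849, 500, 833, 519, 505, 837, 827, 455, 456, 882, 877, 448, 851, 451, 498, 529, 493, 516, 528, 510, 447, 468, 859, 822, 841, 858, 852, 855, 836, 103, 134, 97, 92, 109, 115, 127, 120, 856, 854, 514, 102, 96, 104, 149, 150, 141, 138, 465, 871, 884, 506, 527, 511, 492,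 853, 838, 132, 98, 142, 161, 151, 518, 128, 897, 887, 868, 865, 899, 461, 474, 479, 483, 488, 482, 898, 475, 458, 462, 893, 888, 873, 862, 890, 469, 894, 881, 860, 823, 830, 842, 843, 848, 895, 477, 828, 453, 457, 891, 463, 896, 834, 889, 824, 116, 110, 90, 857, 470, 835, 108, 126, 91, 875, 874, 885, 863, 869, 866, 880, 879, 886], [81, 155, 101, 129, 95, 82, 121, 144, 139, 156, 153, 146, 119, 94, 113, 99, 106, 125, 130, 89, 93, 83, 86, 114, 133, 122, 85, 135, 148, 145, 152, 143, 140, 159, 157, 154, 84, 137, 158, 147, 136, 112, 117, 124, 88, 105, 111, 100, 107, 118, 123, 131, 87, 103, 134, 97, 92, 109, 115, 127, 120, 102, 96, 104, 149, 150, 141, 138, 160, 132, 98, 142, 161, 151, 116, 110, 128, 90, 108, 126, 91], [0, 2, 1], [162, 166, 167, 163, 170, 168, 169, 165, 164], [405, 406, 407], [81, 82, 83], [0]]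

theorem cert_ok : cert.ok = true := by decide +kernel

end Cfsg.Lib.OrthSevenMult.Three
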