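import Cfsg.Agent.OrthSevenMult.Model
import Cfsg.Agent.OrthSevenMult.ThreeData
import Cfsg.Agent.OrthSevenMult.ThreeCert
import Cfsg.Agent.Schur.MonoCover

/-!
Checks for the cover on 1134 points.
-/

set_option autoImplicit false
set_option maxRecDepth 20000
set_option Elab.async false

namespace Cfsg.Lib.OrthSevenMult.Three

open Cfsg.Lib.PermCert Cfsg.Lib.Schur.Mono
open Cfsg.Lib.Schur.PermPrime (ev wordsIn ruleRow fusOK orbOK)

/-- A row of the relation. -/
def row (i : ℕ) : ℕ := (rowTabs.getD (i / 20) []).getD (i % 20) 0

theorem rel_ok : relOK 378 letTabs = true := by decide +kernel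

theorem chain_ok : chainsOK 378 letTabs chain = true := by decide +kernel

theorem lengths : genBase.length = 2 ∧ genTabs.length = 2 ∧ genWords.length = 2 ∧ letWords.length = 8 ∧
    wordsIn 8 genWords = true ∧ wordsIn 2 letWords = true ∧ Cfsg.Lib.Schur.PermPrime.gensOK 378 genBase = true := by
  decide +kernel

/-- A table agrees with a word. -/
def agreeOK (G : List PP) (w : List ℕ) (g : PP) : Bool :=
  (List.range 378).all fun x => ev G w x == ap g.1 x

theorem gen_words : ((List.range 2).all fun k => agreeOK letTabs (genWords.getD k []) (genBase.getD k (0, 0))) = true := by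
  decide +kernel

theorem let_words : ((List.range 8).all fun t => agreeOK genBase (letWords.getD t []) (letTabs.getD t (0, 0))) = true := by
  decide +kernel

theorem compat_ok : compatOK 378 3 genBase genTabs = true := by decide +kernel

theorem stable0_0 : stableOK 3 378 row (genTabs.getD 0 (0, 0)).1 ((List.range 378).map (· + 0)) = true := by
  decide +kernel

theorem stable1_0 : stableOK 3 378 row (genTabs.getD 1 (0, 0)).1 ((List.range 378).map (· + 0)) = true := by
  decide +kernel

theorem tree_ok : treeOK 3 378 row tree [0] = true := by decide +kernel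

theorem comm_ok : commOK genTabs 3 (3 * 378) comA comB comAi comBi = true := by decide +kernel

theorem stable_chunks : ∀ k < 2, ∀ j < 1, stableOK 3 378 row (genTabs.getD k (0, 0)).1
    ((List.range 378).map (· + 378 * j)) = true
  | 0, _, 0, _ => stable0_0
  | 1, _, 0, _ => stable1_0
  | 0, _, _ + 1, h => absurd h (by omega)
  | 1, _, _ + 1, h => absurd h (by omega)
  | _ + 2, h, _, _ => absurd h (by omega)

theorem stable_ok : ∀ k < genTabs.length, ∀ i < 378, stableOK 3 378 row (genTabs.getD k (0, 0)).1 [i] = true := by
  intro k hk i hi
  rw [lengths.2.1] at hk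
  have h := stable_chunks k hk (i / 378) (by omega)
  simp only [stableOK, List.all_cons, List.all_nil, Bool.and_true, List.all_map] at h ⊢
  have h' := List.all_eq_true.mp h (i % 378) (List.mem_range.mpr (Nat.mod_lt _ (by norm_num)))
  simpa [Function.comp_apply, Nat.mod_add_div] using h'

theorem words_ok : (wordsIn genTabs.length pcw && wordsIn genTabs.length fw) = true := by decide +kernel

theorem rows_ok : ((List.range 10).all fun j => ruleRow genTabs covPts cert pcw j) = true := by decide +kernel

theorem fus_ok : fusOK genTabs covPts cert pcw fw = true := by decide +kernel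

theorem orbs_ok : ((List.range 10).all fun k => orbOK (3 * 378) genTabs 10 pcw k (orbs.getD k [])) = true := by
  decide +kernel

end Cfsg.Lib.OrthSevenMult.Three
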