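import Cfsg.Agent.Schur.PrimeCert

/-!
Certificate data for the prime 2 in the cover of degree 2160.
-/

set_option autoImplicit false
set_option maxRecDepth 20000

namespace Cfsg.Lib.OrthSevenMult.Two

open Cfsg.Lib.Schur.Prime

/-- The certificate. -/
def cert : Cert where
  p := 2
  n := 10
  tails := [
    [[5, 7, 9]],
    [[0, 1, 2, 3, 5, 7, 8, 9], [4, 5, 9]],
    [[0, 2, 5, 8, 9], [1, 2, 4, 5, 8], []],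
    [[0, 3, 5, 8, 9], [1, 3, 4, 8, 9], [2, 3, 5, 8, 9], [5, 9]],
    [[0, 4, 5, 8], [1, 4, 8, 9], [2, 4], [3, 4, 8, 9], [9]],
    [[0, 5], [1, 5, 8, 9], [2, 5], [3, 5], [4, 5, 9], [9]],
    [[0, 6, 7, 8, 9], [1, 6, 8], [2, 6], [3, 6, 9], [4, 6, 9], [5, 6], []],
    [[0, 7], [1, 7, 9], [2, 7, 9], [3, 7, 9], [4, 7], [5, 7], [6, 7, 9], [9]],
    [[0, 8], [1, 8, 9], [2, 8, 9], [3, 8, 9], [4, 8], [5, 8], [6, 8], [7, 8], []],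
    [[0, 9], [1, 9], [2, 9], [3, 9], [4, 9], [5, 9], [6, 9], [7, 9], [8, 9], []]]
  overlaps := [([0, 0, 0], 1), ([1, 1, 1], 1), ([3, 3, 3], 1), ([4, 4, 4], 1), ([5, 5, 5], 1), ([7, 7, 7], 1), ([1, 0, 0], 1), ([1, 1, 0], 1), ([2, 0, 0], 1), ([2, 2, 0], 1), ([2, 1, 1], 1), ([2, 2, 1], 1), ([2, 1, 0], 1), ([3, 0, 0], 1), ([3, 3, 0], 1), ([3, 1, 1], 1), ([3, 3, 1], 1), ([3, 1, 0], 1), ([3, 2, 2], 1), ([3, 3, 2], 1), ([3, 2, 0], 1), ([3, 2, 1], 1), ([4, 0, 0], 1), ([4, 4, 0], 1), ([4, 1, 1], 1), ([4, 4, 1], 1), ([4, 1, 0], 1), ([4, 4, 2], 1), ([4, 2, 0], 1), ([4, 2, 1], 1), ([4, 3, 2], 1), ([5, 1, 0], 1), ([6, 0, 0], 1), ([6, 6, 0], 1), ([6, 1, 1], 1), ([6, 6, 1], 1), ([6, 1, 0], 1), ([6, 2, 0], 1)]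
  fuse := [
    ([[0, 2, 5, 6, 7], [2, 4], [9]],
      [[2, 6, 7], [7, 9], [9]],
      [([1, 0], [0, 1]), ([1, 1], [0, 0])]),
    ([[5, 6], [7], [9]],
      [[2, 6, 7], [2, 5], [9]],
      [([1, 0], [0, 0, 0, 1]), ([1, 1], [0, 0])]),
    ([[0, 2, 5, 6], [2, 3, 4, 5, 8], [9]],
      [[2, 3, 4, 5, 6, 7, 8, 9], [1, 2, 4, 8], [9]],
      [([0, 0], []), ([1, 0], [0, 1]), ([1, 1], [])]),
    ([[2, 8], [5, 6, 8], [9]],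
      [[2, 4, 5], [7, 9], [9]],
      [([1, 0], [0, 0, 0, 1]), ([1, 1], [0, 0])]),
    ([[5, 6], [7], [9]],
      [[4, 5, 8, 9], [2, 4, 5], [9]],
      [([1, 1], [0, 0])]),
    ([[1, 3, 8], [5, 6, 8], [9]],
      [[2, 3, 4, 7, 8], [7], [9]],
      [([1, 0], [0, 1])])]
  delta := [
    [],
    [],
    [],
    [(0, 1), (10, 1), (20, 1), (21, 1), (31, 1)],
    [(11, 1), (21, 1), (31, 1)],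
    [(11, 1), (20, 1), (21, 1)],
    [],
    [(0, 1), (21, 1), (31, 1)],
    [(20, 1), (21, 1), (31, 1)],
    [(11, 1), (20, 1), (31, 1)]]
  sels := [
    [[]],
    [[], []],
    [[], [], [(0, 1), (8, 1), (9, 1), (11, 1), (12, 1), (13, 1), (14, 1), (17, 1), (19, 1), (20, 1), (21, 1), (23, 1), (25, 1), (26, 1), (27, 1), (28, 1), (31, 1), (32, 1), (35, 1), (40, 1), (41, 1), (45, 1)]],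
    [[(0, 1), (5, 1), (6, 1), (9, 1), (11, 1), (13, 1), (16, 1), (18, 1), (21, 1), (22, 1), (23, 1), (26, 1), (27, 1), (28, 1), (29, 1), (32, 1), (33, 1), (34, 1), (35, 1), (36, 1), (39, 1), (40, 1), (42, 1), (45, 1), (46, 1), (47, 1)], [], [(0, 1), (1, 1), (4, 1), (5, 1), (10, 1), (12, 1), (16, 1), (18, 1), (19, 1), (20, 1), (22, 1), (23, 1), (24, 1), (28, 1), (32, 1), (34, 1), (38, 1), (40, 1), (45, 1), (46, 1), (47, 1)], [(0, 1), (1, 1), (3, 1), (6, 1), (8, 1), (10, 1), (11, 1), (12, 1), (15, 1), (18, 1), (19, 1), (22, 1), (24, 1), (30, 1), (31, 1), (37, 1), (40, 1), (43, 1), (48, 1)]],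
    [[(1, 1), (2, 1), (3, 1), (6, 1), (9, 1), (10, 1), (16, 1), (20, 1), (22, 1), (28, 1), (29, 1), (31, 1), (32, 1), (37, 1), (41, 1), (43, 1), (44, 1), (45, 1), (46, 1), (47, 1), (48, 1)], [(3, 1), (4, 1), (5, 1), (6, 1), (7, 1), (8, 1), (9, 1), (12, 1), (15, 1), (17, 1), (18, 1), (22, 1), (23, 1), (24, 1), (28, 1), (31, 1), (33, 1), (34, 1), (35, 1), (36, 1), (37, 1), (39, 1), (40, 1), (41, 1), (42, 1), (43, 1), (44, 1), (48, 1)], [(0, 1), (1, 1), (2, 1), (4, 1), (5, 1), (8, 1), (9, 1), (10, 1), (12, 1), (13, 1), (14, 1), (16, 1), (17, 1), (18, 1), (19, 1), (20, 1), (23, 1), (26, 1), (27, 1), (29, 1), (31, 1), (32, 1), (40, 1), (41, 1), (45, 1), (46, 1), (47, 1)], [(0, 1), (3, 1), (4, 1), (6, 1), (7, 1), (13, 1), (14, 1), (16, 1), (18, 1), (19, 1), (20, 1), (22,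 1), (24, 1), (26, 1), (28, 1), (32, 1), (33, 1), (34, 1), (35, 1), (36, 1), (37, 1), (39, 1), (42, 1), (43, 1), (44, 1), (45, 1), (46, 1), (47, 1), (48, 1)], [(2, 1), (4, 1), (5, 1), (6, 1), (8, 1), (9, 1), (16, 1), (18, 1), (20, 1), (23, 1), (25, 1), (27, 1), (30, 1), (31, 1), (32, 1), (34, 1), (37, 1), (38, 1), (43, 1), (44, 1), (45, 1), (46, 1), (47, 1), (48, 1)]],
    [[(2, 1), (11, 1), (14, 1), (16, 1), (19, 1), (21, 1), (23, 1), (24, 1), (25, 1)], [(3, 1), (5, 1), (6, 1), (7, 1), (13, 1), (16, 1), (18, 1), (19, 1), (21, 1), (23, 1), (26, 1), (28, 1), (29, 1), (30, 1), (31, 1), (33, 1), (34, 1), (35, 1), (36, 1), (37, 1), (39, 1), (40, 1), (41, 1), (42, 1), (43, 1), (44, 1), (48, 1)], [(1, 1), (4, 1), (8, 1), (9, 1), (12, 1), (13, 1), (15, 1), (16, 1), (17,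 1), (19, 1), (21, 1), (22, 1), (24, 1), (25, 1), (26, 1), (27, 1), (28, 1), (30, 1)], [(1, 1), (3, 1), (8, 1), (10, 1), (12, 1), (13, 1), (16, 1), (17, 1), (18, 1), (22, 1), (26, 1), (29, 1)], [(0, 1), (2, 1), (3, 1), (4, 1), (6, 1), (8, 1), (10, 1), (14, 1), (15, 1), (18, 1), (22, 1), (25, 1), (30, 1), (34, 1), (37, 1), (38, 1), (40, 1), (41, 1), (43, 1), (44, 1), (48, 1)], [(0, 1), (3, 1), (6, 1), (9, 1), (12, 1), (13, 1), (14, 1), (17, 1), (18, 1), (19, 1), (24, 1), (25, 1), (26, 1), (28, 1), (30, 1), (34, 1), (37, 1), (38, 1), (40, 1), (41, 1), (43, 1), (44, 1), (48, 1)]],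
    [[(4, 1), (6, 1), (9, 1), (10, 1), (12, 1), (13, 1), (14, 1), (15, 1), (16, 1), (17, 1), (20, 1), (21, 1), (22, 1), (24, 1), (27, 1), (29, 1), (30, 1), (31, 1), (33, 1), (34, 1), (35, 1), (38, 1), (39, 1), (41, 1), (43, 1), (44, 1), (48, 1)], [(1, 1), (3, 1), (6, 1), (8, 1), (9, 1), (11, 1), (19, 1), (20, 1), (23, 1), (25, 1), (26, 1), (31, 1), (33, 1), (37, 1), (38, 1), (39, 1), (41, 1), (42, 1), (43, 1)], [(0, 1), (1, 1), (2, 1), (3, 1), (4, 1), (8, 1), (9, 1), (10, 1), (11, 1), (12, 1), (13, 1), (16, 1), (17, 1), (18, 1), (20, 1), (21, 1), (22, 1), (23, 1), (25, 1), (27, 1), (28, 1), (29, 1), (31, 1), (32, 1), (33, 1), (35, 1), (37, 1), (45, 1)], [(0, 1), (7, 1), (9, 1), (12, 1), (13, 1), (14, 1), (15, 1), (16, 1), (17, 1), (22, 1), (24, 1), (25, 1), (28,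 1), (32, 1), (33, 1), (34, 1), (35, 1), (36, 1), (37, 1), (38, 1), (40, 1), (44, 1)], [(0, 1), (5, 1), (6, 1), (19, 1), (21, 1), (22, 1), (23, 1), (25, 1), (28, 1), (31, 1), (35, 1), (38, 1), (40, 1), (41, 1), (43, 1), (44, 1), (48, 1)], [(0, 1), (1, 1), (4, 1), (9, 1), (10, 1), (11, 1), (18, 1), (19, 1), (20, 1), (23, 1), (24, 1), (27, 1), (29, 1), (30, 1), (32, 1), (33, 1), (35, 1)], [(0, 1), (1, 1), (2, 1), (3, 1), (9, 1), (11, 1), (12, 1), (13, 1), (15, 1), (17, 1), (18, 1), (20, 1), (26, 1), (28, 1), (29, 1), (32, 1), (35, 1), (37, 1), (41, 1), (45, 1), (46, 1)]],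
    [[(0, 1), (1, 1), (4, 1), (8, 1), (9, 1), (12, 1), (13, 1), (14, 1), (15, 1), (16, 1), (17, 1), (21, 1), (22, 1), (24, 1), (25, 1), (26, 1), (28, 1), (30, 1)], [(0, 1), (4, 1), (5, 1), (7, 1), (8, 1), (9, 1), (10, 1), (13, 1), (14, 1), (16, 1), (19, 1), (21, 1), (22, 1), (24, 1), (28, 1), (32, 1), (33, 1), (34, 1), (37, 1), (38, 1), (40, 1), (41, 1), (44, 1)], [(0, 1), (1, 1), (5, 1), (6, 1), (8, 1), (10, 1), (11, 1), (12, 1), (13, 1), (14, 1), (17, 1), (18, 1), (20, 1), (25, 1), (26, 1), (28, 1), (29, 1), (30, 1), (34, 1), (37, 1), (38, 1), (40, 1), (41, 1), (43, 1), (44, 1), (48, 1)], [(0, 1), (2, 1), (4, 1), (5, 1), (6, 1), (8, 1), (9, 1), (10, 1), (11, 1), (13, 1), (14, 1), (15, 1), (16, 1), (18, 1), (19, 1), (20, 1), (21, 1), (22, 1), (24, 1), (29, 1),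 (34, 1), (37, 1), (38, 1), (40, 1), (41, 1), (43, 1), (44, 1), (48, 1)], [(2, 1), (3, 1), (9, 1), (11, 1), (16, 1), (18, 1), (19, 1), (20, 1), (21, 1), (22, 1), (23, 1), (24, 1), (25, 1), (27, 1), (28, 1), (29, 1), (30, 1)], [(2, 1), (3, 1), (5, 1), (8, 1), (10, 1), (12, 1), (13, 1), (14, 1), (15, 1), (17, 1), (18, 1), (21, 1), (24, 1), (25, 1), (27, 1), (28, 1), (29, 1), (30, 1)], [(1, 1), (6, 1), (8, 1), (9, 1), (11, 1), (15, 1), (16, 1), (18, 1), (19, 1), (22, 1), (25, 1), (26, 1), (32, 1), (33, 1), (34, 1), (37, 1), (38, 1), (40, 1), (43, 1), (44, 1), (45, 1), (48, 1)], [(0, 1), (1, 1), (3, 1), (5, 1), (6, 1), (8, 1), (9, 1), (10, 1), (12, 1), (13, 1), (14, 1), (17, 1), (18, 1), (19, 1), (22, 1), (23, 1), (25, 1), (26, 1), (29, 1), (33, 1), (34, 1), (35, 1),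 (38, 1), (40, 1), (43, 1), (44, 1), (45, 1), (48, 1)]],
    [[(4, 1), (14, 1), (18, 1), (20, 1)], [(0, 1), (2, 1), (6, 1), (8, 1), (10, 1), (14, 1), (15, 1), (18, 1), (22, 1), (24, 1), (29, 1), (34, 1), (37, 1), (38, 1), (40, 1), (41, 1), (43, 1), (44, 1), (48, 1)], [(0, 1), (4, 1), (6, 1), (8, 1), (9, 1), (10, 1), (11, 1), (14, 1), (15, 1), (16, 1), (18, 1), (21, 1), (22, 1), (24, 1), (29, 1), (34, 1), (37, 1), (38, 1), (40, 1), (41, 1), (43, 1), (44, 1), (48, 1)], [(0, 1), (2, 1), (6, 1), (8, 1), (10, 1), (11, 1), (14, 1), (15, 1), (16, 1), (18, 1), (19, 1), (21, 1), (22, 1), (24, 1), (29, 1), (34, 1), (37, 1), (38, 1), (40, 1), (41, 1), (43, 1), (44, 1), (48, 1)], [(1, 1), (2, 1), (8, 1), (11, 1), (12, 1), (13, 1), (15, 1), (17, 1), (19, 1), (22, 1), (26, 1),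 (27, 1), (29, 1)], [(2, 1), (3, 1), (9, 1), (11, 1), (16, 1), (21, 1), (24, 1), (25, 1), (27, 1), (30, 1)], [(1, 1), (2, 1), (9, 1), (10, 1), (16, 1), (21, 1), (25, 1), (27, 1), (29, 1), (30, 1), (35, 1)], [(3, 1), (4, 1), (8, 1), (9, 1), (12, 1), (13, 1), (17, 1), (18, 1), (20, 1), (23, 1), (28, 1), (31, 1)], [(1, 1), (2, 1), (9, 1), (10, 1), (16, 1), (21, 1), (25, 1), (27, 1), (29, 1), (30, 1)]],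
    [[(1, 1), (2, 1), (4, 1), (8, 1), (9, 1), (11, 1), (12, 1), (13, 1), (15, 1), (17, 1), (19, 1), (22, 1), (23, 1), (26, 1), (28, 1), (30, 1)], [(1, 1), (2, 1), (10, 1), (16, 1), (18, 1), (21, 1), (27, 1)], [(27, 1)], [(1, 1), (2, 1), (3, 1), (8, 1), (10, 1), (12, 1), (13, 1), (16, 1), (17, 1), (18, 1), (22, 1), (26, 1), (29, 1)], [(3, 1)], [(4, 1)], [(0, 1), (5, 1), (8, 1), (10, 1), (11, 1), (14, 1), (15, 1), (16, 1), (20, 1), (28, 1), (29, 1), (31, 1), (32, 1), (33, 1), (37, 1)], [(5, 1)], [(4, 1), (9, 1), (18, 1)], [(1, 1), (2, 1), (3, 1), (4, 1), (8, 1), (11, 1), (12, 1), (13, 1), (15, 1), (17, 1), (19, 1), (22, 1), (26, 1), (27, 1), (30, 1)]]]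

/-- Words of the generators. -/
def pcw : List (List ℕ) := [[0, 1, 0, 0, 0, 0, 0, 0, 0, 0, 0, 0, 0, 0, 1, 0, 0, 0, 0, 0, 0, 0, 0, 0, 0, 0, 0, 1, 0, 0, 0, 0, 0, 0, 0, 0, 0, 0, 0, 0, 1, 0, 1, 0, 0, 0, 0, 0, 0, 0, 1, 0, 0, 0, 0, 0, 0, 0, 0, 0, 0, 0, 0, 0, 0, 0, 0, 0, 0, 0, 0, 0, 0, 0, 0, 0, 0, 0, 0, 0, 0, 0, 0, 0, 0, 0, 0, 1, 0, 0, 0, 0, 0, 0, 0, 0, 0, 0, 0, 0, 1, 0, 0, 0, 0, 0, 1, 0, 1, 0, 1], [1, 0, 0, 0, 0, 0, 0, 0, 0, 0, 0, 0, 0, 0, 0, 0, 0, 0, 0, 0, 0, 0, 0, 0, 0, 1, 0, 0, 0, 0, 0, 0, 0, 0, 0, 0, 0, 0, 0, 0, 0, 0, 0, 0, 0, 0, 0, 0, 0, 0, 1, 0, 0, 0, 0, 0, 0, 0, 0, 0, 0, 0, 0, 1, 0, 0, 1, 0, 1, 0, 0, 1, 0, 1, 0, 0, 0, 1, 0, 0, 0, 0, 0, 0, 0, 0, 0, 0, 0, 0, 1, 0, 1, 0, 0, 0, 1, 0, 0, 0, 0, 0, 0, 0, 0, 0, 0, 0, 0, 1, 0, 0, 0, 0, 0, 0, 0, 0, 0, 0, 0, 0, 0, 0, 0,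 0, 0, 0, 0, 0, 0, 0, 0, 0, 1, 1, 0, 0, 0, 0, 0, 0, 0, 0, 0, 0, 0, 0, 0, 0, 0, 0, 0, 0, 0, 0, 0, 0, 0, 0, 1, 0, 0, 0, 0, 0, 0, 0, 0, 0, 0, 0, 0, 0, 0, 0, 0, 0, 0, 0, 0, 0, 0, 0, 0, 1], [0, 0, 1, 0, 0, 0, 0, 0, 0, 0, 0, 0, 0, 0, 0, 1, 0, 0, 0, 0, 0, 0, 0, 0, 0, 0, 0, 0, 0, 0, 0, 0, 0, 0, 0, 0, 0, 0, 0, 0, 0, 0, 0, 0, 0, 0, 0, 0, 0, 0, 0, 0, 1, 0, 0, 0, 0, 0, 0, 0, 0, 0, 0, 0, 0, 1, 0, 0, 0, 0, 0, 0, 0, 0, 0, 0, 0, 0, 1, 0, 0, 0, 1, 0, 0, 0, 0, 0, 0, 0, 0, 0, 0, 0, 0, 1, 0, 0, 0, 1, 0, 1, 0, 0, 0, 1, 0, 0, 0, 0, 0, 0, 0, 0, 0, 0, 0, 0, 0, 0, 0, 0, 0, 0, 0, 0, 0, 0, 0, 0, 0, 0, 0, 0, 0, 0, 0, 0, 0, 0, 0, 0, 1], [1, 0, 0, 0, 0, 0, 0, 0, 0, 0, 0, 0, 0, 0, 0, 0, 0, 0, 0, 0, 0, 0, 0, 0, 0, 0, 0, 0, 0, 0, 0, 0, 0, 0, 0, 0, 0, 0, 0, 0, 0, 0, 0, 0, 0, 0, 0, 0, 0, 1, 0, 1,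 0, 1, 0, 0, 0, 1, 0, 0, 0, 0, 0, 0, 0, 0, 0, 0, 0, 0, 1, 0, 0, 0, 0, 0, 0, 0, 0, 0, 0, 0, 0, 0, 0, 0, 0, 0, 0, 0, 0, 0, 0, 0, 0, 1, 0, 0, 0, 0, 0, 0, 0, 0, 0, 0, 0, 0, 0, 0, 0, 0, 0, 0, 0, 0, 0, 0, 0, 0, 0, 0, 0, 0, 0, 0, 0, 0, 0, 0, 0, 0, 0, 0, 0, 0, 0, 0, 0, 0, 0, 0, 0, 0, 1, 0, 0, 0, 0, 0, 0, 0, 0, 0, 0, 0, 0, 0, 0, 0, 0, 0, 0, 0, 0, 0, 0, 0, 0, 1, 0, 0, 0, 0, 0, 0, 0, 0, 0, 0, 0, 0, 1, 0, 1, 0, 0, 0, 0, 0, 0, 0, 0, 0, 0, 0, 0, 0, 0, 0, 0, 0, 0, 0, 0, 0, 0, 0, 0, 0, 0, 0, 0, 0, 0, 0, 0, 0, 0, 0, 0, 0, 0, 0, 0, 0, 0, 0, 0, 0, 0, 0, 0, 0, 0, 0, 0, 0, 0, 0, 0, 0, 0, 0, 0, 0, 0, 0, 0, 0, 0, 0, 0, 0, 0, 0, 0, 1, 0, 0, 0, 0, 0, 0, 0, 0, 0, 0, 0, 0, 0, 0, 0, 0, 0, 0, 0, 0, 0, 0, 0, 0, 1, 0, 0, 0, 0, 0, 0, 0, 0, 0, 0, 0, 0, 1, 1, 0, 0, 0, 0, 0, 0, 0, 0, 0, 0, 0, 0],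 [0, 0, 1, 0, 0, 0, 0, 0, 0, 0, 0, 0, 0, 0, 0, 1, 0, 0, 0, 0, 0, 0, 0, 0, 0, 0, 0, 0, 0, 0, 0, 0, 0, 0, 0, 0, 0, 0, 0, 0, 1, 0, 0, 0, 0, 0, 0, 0, 0, 0, 0, 0, 0, 0, 0, 0, 0, 0, 0, 0, 0, 0, 0, 0, 0, 0, 0, 0, 0, 0, 0, 0, 0, 0, 0, 0, 0, 0, 0, 0, 0, 0, 0, 0, 0, 0, 0, 0, 0, 0, 0, 0, 0, 0, 0, 0, 0, 0, 0, 0, 0, 1, 0, 0, 0, 0, 0, 0, 0, 0, 0, 0, 0, 0, 1, 0, 1, 0, 0, 0, 1, 0, 0, 0, 0, 0, 0, 0, 0, 0, 0, 0, 0, 1, 0, 0, 0, 0, 0, 0, 0, 0, 0, 0, 0, 0, 0, 0, 0, 0, 0, 0, 0, 0, 0, 0, 0, 0, 1, 0, 0, 0, 0, 0, 0, 0, 0, 0, 0, 0, 0, 1, 0, 0, 1, 0, 1, 0, 0], [1, 0, 0, 1, 0, 1, 0, 0, 0, 0, 0, 0, 1, 0, 0, 0, 0, 0, 0, 0, 0, 0, 0, 0, 0, 1, 0, 0, 0, 0, 0, 0, 0, 0, 0, 0, 0, 0, 1, 0, 0, 0, 0, 0, 0, 0, 0, 0, 0, 0, 0, 1, 0, 1, 0, 0, 0, 0, 0, 0, 1, 0, 0, 0, 1, 0, 0, 0, 0, 0, 0, 0, 0, 0, 0, 0, 0, 1,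 0], [0, 1, 0, 0, 1, 0, 0, 0, 1, 0, 1, 0, 0, 0, 0, 0, 0, 0, 0, 0, 0, 0, 0, 0, 0, 0, 0, 0, 0, 0, 0, 0, 0, 0, 0, 1, 0, 0, 0, 0, 0, 0, 0, 0, 0, 0, 0, 0, 1, 0, 0, 0, 0, 0, 0, 0, 0, 0, 0, 0, 0, 1, 0, 0, 0, 1, 0, 1, 0, 0, 1, 0, 0, 1, 0, 0, 1, 0, 1, 0, 0, 0, 0, 0, 0, 0, 0, 0, 0, 0, 0, 1, 1, 1, 1, 0, 0, 0, 0, 0, 0, 0, 0, 0, 0, 0, 0, 1, 0, 0, 0, 0, 0, 0, 0, 0, 0, 0, 0, 0, 0, 0, 0, 0, 0, 0, 0, 0, 0, 0, 0, 0, 1, 0, 0, 0, 0, 0, 0, 0, 0, 0, 0, 0, 0, 0, 0, 0, 0, 0, 0, 0, 0, 0, 0, 0, 0, 0, 0, 0, 0, 0, 0, 0, 0, 0, 0, 0, 0], [0, 0, 0, 1, 0, 0, 0, 0, 0, 0, 0, 0, 0, 0, 0, 0, 1, 0, 1, 0, 0, 0, 0, 0, 0, 1, 0, 0, 0, 0, 0, 0, 1, 0, 1, 0, 0, 0, 0, 0, 0, 0, 0, 0, 0, 0, 0, 1, 0, 0, 0, 0, 0, 0, 0, 0, 0, 0, 0, 0, 0, 0, 0, 0, 0, 0, 0, 0, 0, 0, 0, 0], [0, 0, 0, 1, 0, 1, 0, 0, 0, 1, 0, 0, 0, 1,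 0, 1, 0, 1, 0, 0, 1, 0, 0, 0, 0, 0, 0, 0, 0, 0, 0, 0, 0, 1, 0, 0, 0, 0, 0, 0, 0, 0, 0, 0, 0, 0, 0, 0, 0, 0, 0, 0, 0, 0, 0, 0, 0, 0, 1, 0, 0, 0, 0, 0, 0, 0, 0, 0, 0, 0, 0, 1, 0, 1, 0, 1, 0, 0, 0, 0, 0, 0, 0, 0, 0, 0, 0, 0, 1], [1, 1]]

/-- Words of the conjugating elements. -/
def fw : List (List ℕ) := [[1, 0, 0], [1, 0, 0, 1, 1, 0, 1, 0, 0, 1, 1, 1, 1, 1, 1, 0, 0, 1, 0, 1, 1, 0, 1, 1, 0, 1, 1, 1, 0, 1, 0, 0, 1, 1, 1, 1, 1, 0, 0, 1, 1, 1, 0], [1, 0, 1, 0, 0, 1, 0, 0, 0, 0, 0, 0, 0, 0, 0, 0, 0, 0, 1, 0, 0, 1, 0, 0, 1, 0, 0, 0, 0, 0, 1, 0, 0, 0, 0, 0, 0, 0, 0, 0, 0, 0, 0, 1, 0, 0, 0, 0, 0, 0, 0, 0, 0, 0, 0, 0, 1, 0, 0, 0, 0, 0, 1, 0, 0, 1, 0, 0, 0, 0, 0, 0, 0, 0, 0, 0, 0, 0, 1, 1, 0, 0, 0, 0, 1, 1, 1, 0, 1, 0], [0, 0, 1, 0, 1, 1, 1], [1, 0, 0, 1, 0, 1, 0, 0, 0, 0,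 0, 0, 1, 0, 0, 0, 0, 0, 0, 0, 0, 0, 0, 0, 0, 1, 0, 0, 0, 0, 0, 0, 0, 0, 0, 0, 0, 0, 1, 0, 0, 0, 0, 0, 0, 0, 0, 0, 0, 0, 0, 1, 0, 1, 0, 0, 0, 0, 0, 0, 1, 0, 0, 0, 1, 0, 0, 0, 0, 0, 0, 0, 0, 0, 0, 0, 0, 1, 0, 1, 0, 0, 1, 0, 1, 0, 1], [0, 0, 0, 0, 0, 0, 0, 0, 0, 0, 0, 0, 1, 0, 0, 0, 0, 1, 0, 0, 0, 0, 1, 0, 0, 0, 0, 0, 0, 0, 0, 0, 0, 0, 0, 1, 0, 1, 0, 1, 0, 1, 0, 0, 1, 0, 0, 0, 1, 0, 0, 1, 0, 0, 0, 0, 0, 1, 0, 1, 1, 0, 0, 0, 1, 0, 0, 0, 0, 0, 1, 1, 1, 1, 1, 0, 1, 0, 1, 1, 0, 0, 0, 1, 1, 0, 0, 0, 1]]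

/-- Small stable sets of points. -/
def orbs : List (List ℕ) := [[306, 1925, 870, 342, 2152, 1593, 2153, 307, 1039, 343, 871, 1924, 1509, 1508, 1592, 1038], [0, 702, 1295, 1676, 1193, 216, 1, 2028, 181, 145, 144, 55, 703, 927, 1192, 1879, 1324, 1325, 633, 1294, 926, 54, 1677, 180, 632, 217, 507, 1878, 506, 1148, 2029, 1149], [6, 2056, 1706, 1241, 2108, 1553, 234, 7, 1240, 787, 426, 130, 1341, 1656, 2057, 543, 56, 288, 1367, 161, 1707, 57, 1033, 1751, 190, 131, 289, 1851, 2136, 2109, 1340, 1850, 1133, 1552, 1657, 235, 427, 1032, 1750, 191, 709, 1404, 267, 2020, 786, 1405, 734, 1255, 813, 266, 339, 1691, 338, 530, 1957, 51, 1172, 542, 1571, 1796, 50, 1259, 270, 1173, 1258, 1002, 1366, 160, 1956, 1570, 1797, 708, 735, 2018, 1027, 1254, 2019, 697, 812, 1690, 271, 966,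 2137, 2021, 531, 967, 1132, 1026, 696, 1615, 479, 169, 1886, 1614, 1913, 478, 1912, 168, 1887, 1475, 107, 1474, 603, 370, 371, 1224, 969, 1918, 1919, 1225, 1334, 968, 1335, 645, 644, 1003, 106, 1166, 602, 1167, 529, 528, 885, 884, 1488, 1489, 916, 917], [306, 2152, 1593, 2153, 307, 1039, 1038, 1592], [2, 1223, 1946, 1253, 228, 3, 547, 1336, 196, 1222, 1520, 1447, 1947, 1521, 647, 1252, 229, 1742, 757, 546, 1743, 517, 1337, 197, 1110, 1446, 1111, 646, 680, 756, 681, 516], [306, 2153, 2152, 307], [320, 1606, 321, 1607], [306, 307], [0, 1], [0]]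

theorem cert_ok : cert.ok = true := by decide +kernel

end Cfsg.Lib.OrthSevenMult.Two
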