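import Cfsg.Agent.OrthSevenMult.Model
import Cfsg.Agent.OrthSevenMult.TwoData

/-!
The chain on the 1080 points has the order of the group.
-/

set_option autoImplicit false
set_option maxRecDepth 20000
set_option Elab.async false

namespace Cfsg.Lib.OrthSevenMult.Two

open Cfsg.Lib.PermCert

theorem chain_ok : chainsOK 1080 letTabs chain = true := by decide +kernel

end Cfsg.Lib.OrthSevenMult.Two
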