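import Cfsg.Agent.OrthSevenMult.TwoData

/-!
The rows of the relation on the 1080 points.
-/

set_option autoImplicit false

namespace Cfsg.Lib.OrthSevenMult.Two

/-- A row of the relation. -/
def row (i : ℕ) : ℕ := (rowTabs.getD (i / 20) []).getD (i % 20) 0

end Cfsg.Lib.OrthSevenMult.Two
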