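import Cfsg.Agent.Schur.MonoCover
import Cfsg.Agent.OrthSevenMult.TwoRow

/-!
Stability of the relation under one generator, on part of the points.
-/

set_option autoImplicit false
set_option maxRecDepth 20000
set_option Elab.async false

namespace Cfsg.Lib.OrthSevenMult.Two

open Cfsg.Lib.PermCert Cfsg.Lib.Schur.Mono

theorem stable1_2 : stableOK 2 1080 row (genTabs.getD 1 (0, 0)).1 ((List.range 270).map (· + 540)) = true := by
  decide +kernel

theorem stable1_3 : stableOK 2 1080 row (genTabs.getD 1 (0, 0)).1 ((List.range 270).map (· + 810)) = true := by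
  decide +kernel

end Cfsg.Lib.OrthSevenMult.Two
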