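import Cfsg.Agent.OrthSevenMult.Action
import Cfsg.Agent.OrthSevenMult.TwoChecks
import Cfsg.Agent.OrthSevenMult.ThreeChecks
import Cfsg.Agent.OrthSevenMult.Fibre
import Cfsg.Agent.OrthSevenMult.Transport
import Cfsg.Agent.Schur.CoverKernel
import Cfsg.Agent.Schur.Criteria

/-!
The multiplier of the orthogonal group of dimension seven over three elements is cyclic of order six.
-/

set_option autoImplicit false
set_option maxRecDepth 20000
set_option linter.style.haveILetI false

namespace Cfsg.Lib.OrthSevenMult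

open Cfsg.Lib.PermCert Cfsg.Lib.CosetCert Cfsg.Lib.FiPres
open Cfsg.Lib.Schur.PermPrime (elem gensOK wordsIn)

theorem factorization_eq {n p e : ℕ} (hn : n ≠ 0) (hp : p.Prime) (h1 : p ^ e ∣ n) (h2 : ¬ p ^ (e + 1) ∣ n) :
    n.factorization p = e := by
  refine le_antisymm ?_ ((hp.pow_dvd_iff_le_factorization hn).mp h1)
  by_contra h
  exact h2 ((hp.pow_dvd_iff_le_factorization hn).mpr (by omega))

theorem card_P8 : Nat.card P8 = 4585351680 := (act_faithful Three.rel_ok Three.chain_ok).2

/-- The cover on 2160 points. -/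
abbrev TwoCov : Subgroup (Equiv.Perm (Fin (2 * 1080))) := Cfsg.Lib.Schur.Mono.cov 2 1080 Two.genTabs

theorem two_gens : Gens 1080 Two.letTabs Two.genBase Two.genWords Two.letWords := by
  obtain ⟨hB, -, -, -, hg, hl, hok⟩ := Two.lengths
  refine ⟨hok, hg, hB.symm ▸ hl, fun k hk x hx => ?_, fun t ht x hx => ?_⟩
  · have h := List.all_eq_true.mp Two.gen_words k (List.mem_range.mpr (hB ▸ hk))
    simp only [Two.agreeOK, List.all_eq_true, List.mem_range, beq_iff_eq] at h
    exact h x hx
  · have h := List.all_eq_true.mp Two.let_words t (List.mem_range.mpr ht)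
    simp only [Two.agreeOK, List.all_eq_true, List.mem_range, beq_iff_eq] at h
    exact h x hx

theorem two_cover : ∃ π : TwoCov →* P8, Cfsg.IsStemExtension π ∧ Nat.card π.ker = 2 ∧
    Nat.card TwoCov = 9170703360 := by
  obtain ⟨π, h1, h2, -, h4, -⟩ := Cfsg.Lib.Schur.Mono.exists_cover (q := 2) (N := 1080) (by norm_num) (by norm_num)
    Two.compat_ok Two.stable_ok Two.tree_ok Two.comm_ok (act Two.rel_ok)
    (act_faithful Two.rel_ok Two.chain_ok).1
    (fun k hk => (gen_range Two.rel_ok two_gens).1 k (by rw [Two.lengths.1, ← Two.lengths.2.1]; exact hk))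
    (by
      have h := (gen_range Two.rel_ok two_gens).2
      rwa [Two.lengths.1, ← Two.lengths.2.1] at h)
  exact ⟨π, h1, h2, by rw [h4, card_P8]⟩

theorem two_pts : (Two.chain.all fun S => Two.covPts.contains (2 * S.lev.b)) = true ∧
    Two.covPts.contains 0 = true := by decide +kernel

theorem two_based : Cfsg.Lib.Schur.PermPrime.Based TwoCov.subtype Two.covPts :=
  cov_based (by norm_num) (by norm_num) Two.rel_ok two_gens
    (by rw [Two.lengths.1, Two.lengths.2.1]) Two.compat_ok Two.stable_ok Two.tree_ok Two.chain_ok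
    (fun S hS => List.contains_iff_mem.mp (List.all_eq_true.mp two_pts.1 S hS))
    (List.contains_iff_mem.mp two_pts.2)

theorem two_not_dvd {Γ : Type} [Group Γ] [Finite Γ] {σ : Γ →* TwoCov}
    (hσ : Cfsg.IsStemExtension σ) : ¬ 2 ∣ Nat.card σ.ker := by
  obtain ⟨-, -, -, hcard⟩ := two_cover
  obtain ⟨hw, hf⟩ : wordsIn Two.genTabs.length Two.pcw = true ∧ wordsIn Two.genTabs.length Two.fw = true :=
    Bool.and_eq_true_iff.mp Two.words_ok
  have hG : gensOK (2 * 1080) Two.genTabs = true := by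
    have h := Two.compat_ok
    simp only [Cfsg.Lib.Schur.Mono.compatOK, Bool.and_eq_true] at h
    exact h.1.1.2
  have hn : Two.cert.n = 10 := rfl
  exact Cfsg.Lib.Schur.PermPrime.not_dvd_ker TwoCov.subtype hG two_based Two.cert
    (show Nat.Prime 2 by norm_num) Two.cert_ok Two.pcw Two.fw hw hf
    (fun j hj => List.all_eq_true.mp Two.rows_ok j (List.mem_range.mpr (hn ▸ hj))) Two.fus_ok Two.orbs
    (fun k hk => List.all_eq_true.mp Two.orbs_ok k (List.mem_range.mpr (hn ▸ hk)))
    (by
      rw [hcard]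
      exact factorization_eq (p := 2) (e := 10) (by norm_num) (by norm_num) (by norm_num) (by norm_num))
    (fun w hw => ⟨⟨_, Cfsg.Lib.Schur.Mono.elem_mem 2 1080 hw⟩, rfl⟩) hσ

/-- The cover on 1134 points. -/
abbrev ThreeCov : Subgroup (Equiv.Perm (Fin (3 * 378))) := Cfsg.Lib.Schur.Mono.cov 3 378 Three.genTabs

theorem three_gens : Gens 378 Three.letTabs Three.genBase Three.genWords Three.letWords := by
  obtain ⟨hB, -, -, -, hg, hl, hok⟩ := Three.lengths
  refine ⟨hok, hg, hB.symm ▸ hl, fun k hk x hx => ?_, fun t ht x hx => ?_⟩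
  · have h := List.all_eq_true.mp Three.gen_words k (List.mem_range.mpr (hB ▸ hk))
    simp only [Three.agreeOK, List.all_eq_true, List.mem_range, beq_iff_eq] at h
    exact h x hx
  · have h := List.all_eq_true.mp Three.let_words t (List.mem_range.mpr ht)
    simp only [Three.agreeOK, List.all_eq_true, List.mem_range, beq_iff_eq] at h
    exact h x hx

theorem three_cover : ∃ π : ThreeCov →* P8, Cfsg.IsStemExtension π ∧ Nat.card π.ker = 3 ∧
    Nat.card ThreeCov = 13756055040 := by
  obtain ⟨π, h1, h2, -, h4, -⟩ := Cfsg.Lib.Schur.Mono.exists_cover (q := 3) (N := 378) (by norm_num) (by norm_num)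
    Three.compat_ok Three.stable_ok Three.tree_ok Three.comm_ok (act Three.rel_ok)
    (act_faithful Three.rel_ok Three.chain_ok).1
    (fun k hk => (gen_range Three.rel_ok three_gens).1 k (by rw [Three.lengths.1, ← Three.lengths.2.1]; exact hk))
    (by
      have h := (gen_range Three.rel_ok three_gens).2
      rwa [Three.lengths.1, ← Three.lengths.2.1] at h)
  exact ⟨π, h1, h2, by rw [h4, card_P8]⟩

theorem three_pts : (Three.chain.all fun S => Three.covPts.contains (3 * S.lev.b)) = true ∧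
    Three.covPts.contains 0 = true := by decide +kernel

theorem three_based : Cfsg.Lib.Schur.PermPrime.Based ThreeCov.subtype Three.covPts :=
  cov_based (by norm_num) (by norm_num) Three.rel_ok three_gens
    (by rw [Three.lengths.1, Three.lengths.2.1]) Three.compat_ok Three.stable_ok Three.tree_ok Three.chain_ok
    (fun S hS => List.contains_iff_mem.mp (List.all_eq_true.mp three_pts.1 S hS))
    (List.contains_iff_mem.mp three_pts.2)

theorem three_not_dvd {Γ : Type} [Group Γ] [Finite Γ] {σ : Γ →* ThreeCov}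
    (hσ : Cfsg.IsStemExtension σ) : ¬ 3 ∣ Nat.card σ.ker := by
  obtain ⟨-, -, -, hcard⟩ := three_cover
  obtain ⟨hw, hf⟩ : wordsIn Three.genTabs.length Three.pcw = true ∧ wordsIn Three.genTabs.length Three.fw = true :=
    Bool.and_eq_true_iff.mp Three.words_ok
  have hG : gensOK (3 * 378) Three.genTabs = true := by
    have h := Three.compat_ok
    simp only [Cfsg.Lib.Schur.Mono.compatOK, Bool.and_eq_true] at h
    exact h.1.1.2
  have hn : Three.cert.n = 10 := rfl
  exact Cfsg.Lib.Schur.PermPrime.not_dvd_ker ThreeCov.subtype hG three_based Three.cert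
    (show Nat.Prime 3 by norm_num) Three.cert_ok Three.pcw Three.fw hw hf
    (fun j hj => List.all_eq_true.mp Three.rows_ok j (List.mem_range.mpr (hn ▸ hj))) Three.fus_ok Three.orbs
    (fun k hk => List.all_eq_true.mp Three.orbs_ok k (List.mem_range.mpr (hn ▸ hk)))
    (by
      rw [hcard]
      exact factorization_eq (p := 3) (e := 10) (by norm_num) (by norm_num) (by norm_num) (by norm_num))
    (fun w hw => ⟨⟨_, Cfsg.Lib.Schur.Mono.elem_mem 3 378 hw⟩, rfl⟩) hσ

theorem multiplier {F : Type*} [Field F] [Fintype F] (hF : Fintype.card F = 3) :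
    Cfsg.HasCyclicSchurMultiplier (Cfsg.POmega F (Cfsg.quadFormOdd 3 F)) 6 := by
  obtain ⟨π₂, h₂, hk₂, hc₂⟩ := two_cover
  obtain ⟨π₃, h₃, hk₃, hc₃⟩ := three_cover
  haveI := finite_P8.1
  obtain ⟨D, hD, hfD, p₂, p₃, hperf, hp₂, hp₃, hcomp, hkp₂, hkp₃⟩ :=
    exists_both π₂ π₃ h₂ h₃ perfect_P8 (by rw [hk₂, hk₃]; decide)
  have hperf₂ : commutator TwoCov = ⊤ := perfect_of_stem h₂ perfect_P8
  have hπ := stem_comp hp₂ h₂ hperf₂
  set π := π₂.comp p₂
  have hker : Nat.card π.ker = 6 := by rw [card_ker_comp p₂ π₂ hp₂.1, hkp₂, hk₂, hk₃]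
  have htriv : ∀ (Δ : Type) [Group Δ] [Finite Δ] (τ : Δ →* D), Cfsg.IsStemExtension τ → τ.ker = ⊥ := by
    intro Δ _ _ τ hτ
    by_contra hne
    obtain ⟨p, hp, hd⟩ := Nat.exists_prime_and_dvd (fun e : Nat.card τ.ker = 1 => hne (Subgroup.card_eq_one.mp e))
    haveI : Fact p.Prime := ⟨hp⟩
    by_cases h2 : p = 2
    · subst h2
      refine two_not_dvd (stem_comp hτ hp₂ hperf) ?_
      rw [card_ker_comp τ p₂ hτ.1]
      exact Dvd.dvd.mul_right hd _
    by_cases h3 : p = 3
    · subst h3
      refine three_not_dvd (stem_comp hτ hp₃ hperf) ?_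
      rw [card_ker_comp τ p₃ hτ.1]
      exact Dvd.dvd.mul_right hd _
    refine not_dvd_cyclic hτ (p := p) (fun h => ?_) hd
    have hcard : Nat.card D = 2 ^ 10 * (3 ^ 10 * (5 * (7 * 13))) := by
      rw [Subgroup.card_eq_card_quotient_mul_card_subgroup π.ker,
        Nat.card_congr (QuotientGroup.quotientKerEquivOfSurjective π hπ.1).toEquiv, card_P8, hker]
      norm_num
    rw [hcard] at h
    have cop : ∀ {r k : ℕ}, r.Prime → p ≠ r → Nat.Coprime (p ^ 2) (r ^ k) := fun hr hne' =>
      ((Nat.coprime_primes hp hr).mpr hne').pow _ _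
    have h' := (cop (k := 10) Nat.prime_two h2).dvd_of_dvd_mul_left h
    have h'' := (cop (k := 10) Nat.prime_three h3).dvd_of_dvd_mul_left h'
    have hle : p ≤ 22 := by
      by_contra hlt
      have := Nat.le_of_dvd (by norm_num) h''
      nlinarith [Nat.pow_le_pow_left (show 23 ≤ p by omega) 2]
    have := hp.two_le
    interval_cases p <;> revert h'' <;> decide
  have hcyc : IsCyclic π.ker := by
    haveI := Fact.mk (show Nat.Prime 2 by norm_num)
    haveI := Fact.mk (show Nat.Prime 3 by norm_num)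
    obtain ⟨a, ha⟩ := exists_prime_orderOf_dvd_card' 2 (show 2 ∣ Nat.card π.ker by rw [hker]; decide)
    obtain ⟨b, hb⟩ := exists_prime_orderOf_dvd_card' 3 (show 3 ∣ Nat.card π.ker by rw [hker]; decide)
    have hab : Commute a b := Subtype.ext (Subgroup.mem_center_iff.mp (hπ.2.1 b.2) a)
    refine isCyclic_of_orderOf_eq_card (a * b) ?_
    rw [hab.orderOf_mul_eq_mul_orderOf_of_coprime (by rw [ha, hb]; decide), ha, hb, hker]
  obtain ⟨e⟩ : Nonempty (π.ker ≃* Multiplicative (ZMod 6)) := ⟨mulEquivOfCyclicCardEq (by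
    rw [hker, Nat.card_congr Multiplicative.toAdd, Nat.card_zmod])⟩
  let eF : ZMod 3 ≃+* F := FiniteField.ringEquivOfCardEq (K := ZMod 3) (K' := F) (by rw [ZMod.card, hF])
  obtain ⟨j⟩ := pomega_congr eF 3
  let i₀ : Cfsg.Omega (ZMod 3) (⇑Qf) ≃* Cfsg.POmega (ZMod 3) (⇑Qf) :=
    ((QuotientGroup.quotientMulEquivOfEq card_omega7.2).trans QuotientGroup.quotientBot).symm
  have i₁ : Cfsg.POmega (ZMod 3) (⇑Qf) ≃* Cfsg.POmega F (Cfsg.quadFormOdd 3 F) := by rw [Qf_coe]; exact j
  exact Cfsg.Lib.Schur.hasSchurMultiplier_of_cover π hπ hperf htriv e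
    (((MulEquiv.ofBijective toOm toOm_bijective).trans i₀).trans i₁)

end Cfsg.Lib.OrthSevenMult
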