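import Cfsg.Agent.FiPres.OrthImage
import Cfsg.Agent.CosetCert.Sift
import Cfsg.Agent.Schur.MonoCover

/-!
Faithful actions of the presented orthogonal group on eight letters, given by tables and a chain.
-/

set_option autoImplicit false

namespace Cfsg.Lib.OrthSevenMult

open Cfsg.Lib.PermCert Cfsg.Lib.CosetCert Cfsg.Lib.FiPres

/-- The permutation of a letter, the first of nine being trivial. -/
def letPerm (n : ℕ) (T : List PP) (l : ℕ) : Equiv.Perm (Fin n) :=
  if l = 0 then 1 else perm n (T.getD (l - 1) (0, 0))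

/-- The tables satisfy the relators. -/
def relOK (n : ℕ) (T : List PP) : Bool :=
  (T.length == 8) && T.all (valid n) &&
    words8.all fun w => isId n ((w.filter fun l => l != 0).map fun l => T.getD (l - 1) (0, 0))

variable {n : ℕ} {T : List PP}

theorem rel_facts (h : relOK n T = true) : T.length = 8 ∧ ∀ l < 8, valid n (T.getD l (0, 0)) = true := by
  simp only [relOK, Bool.and_eq_true, beq_iff_eq, List.all_eq_true] at h
  refine ⟨h.1.1, fun l hl => ?_⟩
  rw [List.getD_eq_getElem _ _ (h.1.1.symm ▸ hl)]
  exact h.1.2 _ (List.getElem_mem _)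

theorem prod_skip {G : Type*} [Group G] {f : ℕ → G} (h0 : f 0 = 1) : ∀ w : List ℕ,
    (w.map f).prod = ((w.filter fun l => l != 0).map f).prod
  | [] => rfl
  | 0 :: w => by simp [h0, prod_skip h0 w]
  | (l + 1) :: w => by simp [prod_skip h0 w]

theorem letPerm_rel (h : relOK n T = true) : ∀ w ∈ words8, wval (letPerm n T) w = 1 := fun w hw => by
  obtain ⟨hlen, hv⟩ := rel_facts h
  simp only [relOK, Bool.and_eq_true, List.all_eq_true] at h
  have hlt : ∀ l ∈ w, l < 9 := fun l hl =>
    decide_eq_true_eq.mp (List.all_eq_true.1 (List.all_eq_true.1 words8_ok.1 w hw) l hl)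
  have hid := isId_sound (n := n) (fun g hg => by
    obtain ⟨l, hl, rfl⟩ := List.mem_map.1 hg
    have := hlt l (List.mem_filter.1 hl).1
    exact hv _ (by omega)) (h.2 w hw)
  rw [wval, prod_skip (f := letPerm n T) (by simp [letPerm])]
  refine Eq.trans ?_ hid
  rw [wperm, List.map_map]
  refine congrArg List.prod (List.map_congr_left fun l hl => ?_)
  have : l ≠ 0 := by simpa using (List.mem_filter.1 hl).2
  simp [letPerm, this]

/-- The action. -/
noncomputable def act (h : relOK n T = true) : P8 →* Equiv.Perm (Fin n) :=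
  PresentedGroup.toGroup (lift8 (letPerm n T) (letPerm_rel h))

/-- The eight letters. -/
def imL (l : ℕ) : P8 := im8 (l + 1)

theorem act_imL (h : relOK n T = true) {l : ℕ} (hl : l < 8) : act h (imL l) = perm n (T.getD l (0, 0)) := by
  rw [act, imL, im8, PresentedGroup.toGroup.of]
  show letPerm n T ((l + 1) % 9) = _
  rw [Nat.mod_eq_of_lt (by omega), letPerm, if_neg (by omega), Nat.add_sub_cancel]

theorem tabled (h : relOK n T = true) : Tabled imL (act h) T := by
  obtain ⟨hlen, hv⟩ := rel_facts h
  exact ⟨fun l hl => ⟨hv l (by omega), act_imL h (by omega)⟩, fun l hl => im8_sq (by omega)⟩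

/-- The chain has the size of the group and its index lists are right. -/
def chainsOK (n : ℕ) (T : List PP) (c : List SLev) : Bool :=
  chainOK T n T.length (c.map SLev.lev) && c.all (SLev.ok T) && (chainSize (c.map SLev.lev) == 4585351680)

theorem act_faithful (h : relOK n T = true) {c : List SLev} (hc : chainsOK n T c = true) :
    Function.Injective (act h) ∧ Nat.card P8 = 4585351680 := by
  simp only [chainsOK, Bool.and_eq_true, beq_iff_eq] at hc
  haveI := finite_P8.1
  obtain ⟨h1, h2⟩ := (tabled h).faithful (S := ⊤) ⟨inferInstance, by rw [Subgroup.card_top]; exact finite_P8.2⟩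
    hc.1.1 hc.2 fun _ _ _ _ => Subgroup.mem_top _
  exact ⟨(injective_iff_map_eq_one _).2 fun x hx => h2 x (Subgroup.mem_top x) hx, by rwa [Subgroup.card_top] at h1⟩

/-- An element fixing the base points is trivial. -/
theorem act_based (h : relOK n T = true) {c : List SLev} (hc : chainsOK n T c = true) {x : P8}
    (hx : ∀ S ∈ c, ∀ p : Fin n, p.val = S.lev.b → act h x p = p) : x = 1 := by
  simp only [chainsOK, Bool.and_eq_true, beq_iff_eq] at hc
  haveI := finite_P8.1
  have key : ∀ y : P8, (∀ S ∈ c, ∀ p : Fin n, p.val = S.lev.b → act h y p = p) →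
      ∃ w, sift T c (c.map fun S => S.lev.b) = some w ∧ wval imL w = y := fun y hy =>
    sift_complete (tabled h) c ⊤ inferInstance hc.1.1 hc.1.2 (fun _ _ _ _ => Subgroup.mem_top _)
      (by rw [Subgroup.card_top, hc.2]; exact finite_P8.2) y (Subgroup.mem_top y) _ (by
      rw [List.forall₂_map_right_iff, List.forall₂_same]
      intro S hS p hp
      rw [← hp]
      exact congrArg Fin.val (Equiv.Perm.inv_eq_iff_eq.2 (hy S hS p hp).symm))
  obtain ⟨w, hw, ew⟩ := key x hx
  obtain ⟨u, hu, eu⟩ := key 1 fun _ _ p _ => by simp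
  rw [hu, Option.some.injEq] at hw
  rw [← ew, ← eu, hw]

theorem perfect_P8 : commutator P8 = ⊤ := by
  let e : P8 ≃* Cfsg.Omega (ZMod 3) (⇑Qf) := MulEquiv.ofBijective toOm toOm_bijective
  refine Subgroup.map_injective (f := e.toMonoidHom) e.injective ?_
  rw [commutator_def, Subgroup.map_commutator, Subgroup.map_top_of_surjective e.toMonoidHom e.surjective,
    ← commutator_def]
  exact Cfsg.Lib.Classical.Refl.perfect Qf nondeg (by simp)

end Cfsg.Lib.OrthSevenMult
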